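import Groth.Prelude.Def_EtAcyc
import Groth.Agent.EtTor93.Basic
import Groth.Agent.Cons51.TorsionCoh
import Mathlib.RingTheory.Int.Basic

/-!
Higher direct images of `L`-torsion sheaves are `L`-torsion.
-/

set_option autoImplicit false
set_option backward.isDefEq.respectTransparency.types false

universe u

open CategoryTheory CategoryTheory.Limits AlgebraicGeometry Opposite
open Groth.Agent.Unr55.EtSh

namespace Groth.Agent.Henz21.EtAcycComp

theorem exists_split (L : Set ℕ) (N : ℕ) :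
    0 < N → ∃ a b : ℕ, EtAcyc.PrimesIn L a ∧ (∀ p : ℕ, p.Prime → p ∣ b → p ∉ L) ∧ 0 < b ∧ N = a * b := by
  induction N using induction_on_primes with
  | zero => exact fun h => absurd h (lt_irrefl 0)
  | one =>
    exact fun _ => ⟨1, 1, EtTor93.primesIn_one L,
      fun p hp h => absurd (Nat.dvd_one.1 h) hp.ne_one, one_pos, rfl⟩
  | prime_mul p N hp ih =>
    intro hN
    obtain ⟨a, b, ha, hb, hb0, rfl⟩ := ih (pos_of_mul_pos_right hN (Nat.zero_le p))
    by_cases hpL : p ∈ L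
    · refine ⟨p * a, b, EtTor93.primesIn_mul ⟨hp.pos, fun q hq h => ?_⟩ ha, hb, hb0, (mul_assoc p a b).symm⟩
      rwa [(Nat.prime_dvd_prime_iff_eq hq hp).1 h]
    · refine ⟨a, p * b, ha, fun q hq h => ?_, Nat.mul_pos hp.pos hb0, mul_left_comm p a b⟩
      rcases (Nat.Prime.dvd_mul hq).1 h with h | h
      · rwa [(Nat.prime_dvd_prime_iff_eq hq hp).1 h]
      · exact hb q hq h

theorem coprime_of_primesIn {L : Set ℕ} {m b : ℕ} (hm : EtAcyc.PrimesIn L m)
    (hb : ∀ p : ℕ, p.Prime → p ∣ b → p ∉ L) : Nat.Coprime m b :=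
  Nat.coprime_of_dvd' fun p hp h1 h2 => absurd (hm.2 p hp h1) (hb p hp h2)

variable {X : Scheme.{u}}

theorem stalk_map_nsmul_id {F : EtCoh.Ab X} {K : Type u} [Field K] [IsSepClosed K]
    (η : Spec (CommRingCat.of K) ⟶ X) (b : ℕ) (t : ((EtCoh.stalk η).obj F : AddCommGrpCat.{u + 1})) :
    (EtCoh.stalk η).map (b • 𝟙 F) t = b • t := by
  rw [Functor.map_nsmul, (EtCoh.stalk η).map_id]
  rfl

theorem isTorsion_of_isLTorsion {L : Set ℕ} {F : EtCoh.Ab X} (hF : EtAcyc.IsLTorsion L F) :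
    EtCoh.IsTorsion F :=
  (Cons51.isTorsion_iff_stalks F).2 fun _ _ _ η a => by
    obtain ⟨m, hm, h⟩ := EtTor93.stalk_torsion hF η a
    exact isOfFinAddOrder_iff_nsmul_eq_zero.2 ⟨m, hm.1, h⟩

theorem isIso_nsmul_id {L : Set ℕ} {F : EtCoh.Ab X} (hF : EtAcyc.IsLTorsion L F) {b : ℕ}
    (hb : ∀ p : ℕ, p.Prime → p ∣ b → p ∉ L) : IsIso (b • 𝟙 F) := by
  have key : ∀ (K : Type u) [Field K] [IsSepClosed K] (η : Spec (CommRingCat.of K) ⟶ X),
      Function.Bijective ((EtCoh.stalk η).map (b • 𝟙 F)) := by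
    intro K _ _ η
    have hk : ∀ t : ((EtCoh.stalk η).obj F : AddCommGrpCat.{u + 1}),
        ∃ k : ℤ, k • (b • t) = t ∧ b • (k • t) = t := by
      intro t
      obtain ⟨m, hm, hmt⟩ := EtTor93.stalk_torsion hF η t
      have hc : IsCoprime (m : ℤ) (b : ℤ) := Nat.isCoprime_iff_coprime.2 (coprime_of_primesIn hm hb)
      obtain ⟨x, y, hxy⟩ := hc
      have hmt' : (m : ℤ) • t = 0 := by rw [natCast_zsmul]; exact hmt
      have h1 : (y * b) • t = t := by
        conv_rhs => rw [← one_zsmul t, ← hxy, add_zsmul, mul_zsmul, hmt', zsmul_zero, zero_add]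
      refine ⟨y, ?_, ?_⟩
      · rw [← natCast_zsmul, ← mul_zsmul, h1]
      · rw [← natCast_zsmul, ← mul_zsmul, mul_comm, h1]
    refine ⟨(injective_iff_map_eq_zero _).2 fun t ht => ?_, fun t => ?_⟩
    · rw [stalk_map_nsmul_id] at ht
      obtain ⟨k, hk1, -⟩ := hk t
      rw [← hk1, ht, zsmul_zero]
    · obtain ⟨k, -, hk2⟩ := hk t
      exact ⟨k • t, (stalk_map_nsmul_id η b _).trans hk2⟩
  have : Mono (b • 𝟙 F) := mono_of_stalks _ fun K _ _ η => (key K η).1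
  have : Epi (b • 𝟙 F) := epi_of_stalks _ fun K _ _ η => (key K η).2
  exact isIso_of_mono_of_epi _

theorem isLTorsion_of_isTorsion {L : Set ℕ} {G : EtCoh.Ab X} (hG : EtCoh.IsTorsion G)
    (h : ∀ b : ℕ, (∀ p : ℕ, p.Prime → p ∣ b → p ∉ L) → IsIso (b • 𝟙 G)) : EtAcyc.IsLTorsion L G :=
  EtTor93.isLTorsion_of_stalks fun K _ _ η t => by
    obtain ⟨N, hN, hNt⟩ := isOfFinAddOrder_iff_nsmul_eq_zero.1 ((Cons51.isTorsion_iff_stalks G).1 hG K η t)
    obtain ⟨a, b, ha, hb, -, rfl⟩ := exists_split L N hN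
    have := h b hb
    refine ⟨a, ha, (AddCommGrpCat.mono_iff_injective ((EtCoh.stalk η).map (b • 𝟙 G))).1 inferInstance ?_⟩
    rw [stalk_map_nsmul_id, map_zero, ← mul_nsmul', mul_comm]
    exact hNt

theorem isLTorsion_Rpush {Y : Scheme.{u}} (f : X ⟶ Y) [QuasiCompact f] [QuasiSeparated f] {L : Set ℕ}
    {F : EtCoh.Ab X} (hF : EtAcyc.IsLTorsion L F) (q : ℕ) :
    EtAcyc.IsLTorsion L ((EtCoh.Rpush f q).obj F) := by
  refine isLTorsion_of_isTorsion (Cons51.isTorsion_Rpush f (isTorsion_of_isLTorsion hF) q) fun b hb => ?_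
  have := isIso_nsmul_id hF hb
  have h : IsIso ((EtCoh.Rpush f q).map (b • 𝟙 F)) := inferInstance
  rw [Functor.map_nsmul, (EtCoh.Rpush f q).map_id] at h
  exact h

end Groth.Agent.Henz21.EtAcycComp
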