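import Groth.Prelude.Def_EtAcyc
import Groth.Agent.EtTor93.Basic
import Groth.Agent.EtCore45.MVExt
import Groth.Agent.EtCore45.HpullUH
import Groth.Agent.Unr55.Et.PullExact
import Groth.Agent.An92.EtSets.Stalk
import Mathlib.CategoryTheory.Adjunction.Unique

/-!
Acyclic morphisms and composition.
-/

set_option autoImplicit false
set_option backward.isDefEq.respectTransparency.types false

universe u w v u'

open CategoryTheory CategoryTheory.Limits CategoryTheory.Abelian AlgebraicGeometry Opposite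

namespace Groth.Agent.Henz21.EtAcycComp

/-- Composition with isomorphisms on both sides is bijective on `Ext`. -/
theorem bijective_sandwich {C : Type u'} [Category.{v} C] [Abelian C] [HasExt.{w} C] {A A' B B' : C}
    (θ : A' ≅ A) (ι : B ≅ B') (n : ℕ) :
    Function.Bijective (fun x : Ext.{w} A B n =>
      ((Ext.mk₀ θ.hom).comp x (zero_add n)).comp (Ext.mk₀ ι.hom) (add_zero n)) := by
  refine Function.bijective_iff_has_inverse.2 ⟨fun y =>
    ((Ext.mk₀ θ.inv).comp y (zero_add n)).comp (Ext.mk₀ ι.inv) (add_zero n), fun x => ?_, fun y => ?_⟩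
  · simp [Ext.comp_assoc_of_third_deg_zero]
  · simp [Ext.comp_assoc_of_third_deg_zero]

variable {X Y Z : Scheme.{u}} (f : X ⟶ Y) (g : Y ⟶ Z)

/-- Pullback preserves `L`-torsion sheaves. -/
theorem isLTorsion_pull {L : Set ℕ} {F : EtCoh.Ab Y} (hF : EtAcyc.IsLTorsion L F) :
    EtAcyc.IsLTorsion L ((EtCoh.pull f).obj F) :=
  EtTor93.isLTorsion_of_stalks fun K _ _ ξ t => by
    let e := (Unr55.EtSh.stalkPullIso f ξ).app F
    obtain ⟨m, hm, h⟩ := EtTor93.stalk_torsion hF (ξ ≫ f) (e.hom t)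
    refine ⟨m, hm, (AddCommGrpCat.mono_iff_injective e.hom).1 inferInstance ?_⟩
    rw [map_zero, map_nsmul]
    exact h

/-- `Hpull` of a composite, up to a bijection. -/
theorem exists_Hpull_comp [PreservesFiniteLimits (EtCoh.pull f)] [PreservesFiniteLimits (EtCoh.pull g)]
    [PreservesFiniteLimits (EtCoh.pull (f ≫ g))] (G : EtCoh.Ab Z) (n : ℕ) :
    ∃ Φ : EtCoh.H X ((EtCoh.pull (f ≫ g)).obj G) n → EtCoh.H X ((EtCoh.pull f).obj ((EtCoh.pull g).obj G)) n,
      Function.Bijective Φ ∧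
      ∀ e, EtCore.Hpull f ((EtCoh.pull g).obj G) n (EtCore.Hpull g G n e) = Φ (EtCore.Hpull (f ≫ g) G n e) := by
  let θ : EtCoh.const X ℤ ≅ EtCoh.const X ℤ :=
    (EtCore.pullConst f ℤ).symm ≪≫ (EtCoh.pull f).mapIso (EtCore.pullConst g ℤ).symm ≪≫
      ((EtCore.pullComp f g).app (EtCoh.const Z ℤ)).symm ≪≫ EtCore.pullConst (f ≫ g) ℤ
  let ι := (EtCore.pullComp f g).app G
  refine ⟨_, bijective_sandwich θ ι n, fun e => ?_⟩
  have hn := EtCore45.MV.mapExt_natural (EtCoh.pull g) (EtCoh.pull f) (EtCoh.pull (f ≫ g))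
    (EtCore.pullComp f g).inv n e
  replace hn := congrArg (fun z => Ext.comp z (Ext.mk₀ ι.hom) (add_zero n)) hn
  simp only [Ext.comp_assoc_of_third_deg_zero, Ext.mk₀_comp_mk₀] at hn
  rw [show (EtCore.pullComp f g).inv.app G ≫ ι.hom = 𝟙 _ from (EtCore.pullComp f g).inv_hom_id_app G] at hn
  replace hn := (Ext.comp_mk₀_id _).symm.trans hn
  change (Ext.mk₀ (EtCore.pullConst f ℤ).inv).comp
      (((Ext.mk₀ (EtCore.pullConst g ℤ).inv).comp (e.mapExactFunctor (EtCoh.pull g)) (zero_add n)).mapExactFunctor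
        (EtCoh.pull f)) (zero_add n) =
    ((Ext.mk₀ θ.hom).comp ((Ext.mk₀ (EtCore.pullConst (f ≫ g) ℤ).inv).comp
      (e.mapExactFunctor (EtCoh.pull (f ≫ g))) (zero_add n)) (zero_add n)).comp (Ext.mk₀ ι.hom) (add_zero n)
  rw [Ext.mapExactFunctor_comp, Ext.mapExactFunctor_mk₀, hn]
  simp [θ, Ext.comp_assoc_of_third_deg_zero, Ext.mk₀_comp_mk₀_assoc]

theorem bijective_Hpull_comp_iff [PreservesFiniteLimits (EtCoh.pull f)] [PreservesFiniteLimits (EtCoh.pull g)]
    [PreservesFiniteLimits (EtCoh.pull (f ≫ g))] (G : EtCoh.Ab Z) (n : ℕ) :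
    (Function.Bijective (EtCore.Hpull f ((EtCoh.pull g).obj G) n ∘ EtCore.Hpull g G n) ↔
      Function.Bijective (EtCore.Hpull (f ≫ g) G n)) ∧
    (Function.Injective (EtCore.Hpull f ((EtCoh.pull g).obj G) n ∘ EtCore.Hpull g G n) ↔
      Function.Injective (EtCore.Hpull (f ≫ g) G n)) := by
  obtain ⟨Φ, hΦ, h⟩ := exists_Hpull_comp f g G n
  have e : EtCore.Hpull f ((EtCoh.pull g).obj G) n ∘ EtCore.Hpull g G n =
      Φ ∘ EtCore.Hpull (f ≫ g) G n := funext h
  rw [e]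
  exact ⟨hΦ.of_comp_iff' _, hΦ.1.of_comp_iff _⟩

theorem compN_comp {L : Set ℕ} {n : ℕ} (hf : EtAcyc.CompN f L n) (hg : EtAcyc.CompN g L n) :
    EtAcyc.CompN (f ≫ g) L n := by
  intro F hF _
  have := Unr55.EtSh.preservesFiniteLimits_pull f
  have := Unr55.EtSh.preservesFiniteLimits_pull g
  obtain ⟨hb, hi⟩ := hg F hF
  obtain ⟨hb', hi'⟩ := hf _ (isLTorsion_pull g hF)
  exact ⟨fun q hq => (bijective_Hpull_comp_iff f g F q).1.1 ((hb' q hq).comp (hb q hq)),
    (bijective_Hpull_comp_iff f g F (n + 1)).2.1 (hi'.comp hi)⟩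

theorem compN_of_comp {L : Set ℕ} {n : ℕ} (hf : EtAcyc.CompN f L n) (hfg : EtAcyc.CompN (f ≫ g) L n) :
    EtAcyc.CompN g L n := by
  intro F hF _
  have := Unr55.EtSh.preservesFiniteLimits_pull f
  have := Unr55.EtSh.preservesFiniteLimits_pull (f ≫ g)
  obtain ⟨hb, hi⟩ := hfg F hF
  obtain ⟨hb', hi'⟩ := hf _ (isLTorsion_pull g hF)
  exact ⟨fun q hq => ((hb' q hq).of_comp_iff' _).1 ((bijective_Hpull_comp_iff f g F q).1.2 (hb q hq)),
    ((bijective_Hpull_comp_iff f g F (n + 1)).2.2 hi).of_comp⟩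

theorem compN_of_isIso [IsIso f] (L : Set ℕ) (n : ℕ) : EtAcyc.CompN f L n := by
  intro F _ _
  exact ⟨fun q _ => EtCore45.Hpull_bijective_uh f F q, (EtCore45.Hpull_bijective_uh f F (n + 1)).1⟩

theorem compN_isIso_comp [IsIso f] (L : Set ℕ) (n : ℕ) :
    EtAcyc.CompN (f ≫ g) L n ↔ EtAcyc.CompN g L n :=
  ⟨compN_of_comp f g (compN_of_isIso f L n), compN_comp f g (compN_of_isIso f L n)⟩

/-- The sets analogue of `CompN`. -/
def CompSh : Prop := ∀ F : EtDesc.Sh Y, IsIso ((EtDesc.adjSh f).unit.app F)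

theorem isIso_unit_comp_iff (F : EtDesc.Sh Z) :
    IsIso ((EtDesc.adjSh (f ≫ g)).unit.app F) ↔
      IsIso ((EtDesc.adjSh g).unit.app F ≫
        (EtDesc.pushSh g).map ((EtDesc.adjSh f).unit.app ((EtDesc.pullSh g).obj F))) := by
  have h := Adjunction.unit_leftAdjointUniq_hom_app (EtDesc.adjSh (f ≫ g))
    (((EtDesc.adjSh g).comp (EtDesc.adjSh f)).ofNatIsoRight (EtDesc.pushCompSh g f)) F
  have e : (((EtDesc.adjSh g).comp (EtDesc.adjSh f)).ofNatIsoRight (EtDesc.pushCompSh g f)).unit.app F =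
      ((EtDesc.adjSh g).unit.app F ≫
        (EtDesc.pushSh g).map ((EtDesc.adjSh f).unit.app ((EtDesc.pullSh g).obj F))) ≫
      (EtDesc.pushCompSh g f).hom.app _ := by
    simp [Adjunction.ofNatIsoRight, Adjunction.comp_unit_app]
  rw [e] at h
  rw [← isIso_comp_right_iff ((EtDesc.adjSh (f ≫ g)).unit.app F) ((EtDesc.pushSh (f ≫ g)).map
    ((Adjunction.leftAdjointUniq (EtDesc.adjSh (f ≫ g))
      (((EtDesc.adjSh g).comp (EtDesc.adjSh f)).ofNatIsoRight (EtDesc.pushCompSh g f))).hom.app F)), h,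
    isIso_comp_right_iff]

theorem compSh_comp (hf : CompSh f) (hg : CompSh g) : CompSh (f ≫ g) := fun F => by
  rw [isIso_unit_comp_iff]
  have := hf ((EtDesc.pullSh g).obj F)
  have := hg F
  infer_instance

theorem compSh_of_comp (hf : CompSh f) (hfg : CompSh (f ≫ g)) : CompSh g := fun F => by
  have := hf ((EtDesc.pullSh g).obj F)
  exact (isIso_comp_right_iff _ ((EtDesc.pushSh g).map ((EtDesc.adjSh f).unit.app _))).1
    ((isIso_unit_comp_iff f g F).1 (hfg F))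

theorem compSh_of_isIso [IsIso f] : CompSh f := fun F => by
  have hc := An92.EtSets.isIso_counit f ((EtDesc.pullSh f).obj F)
  have ht := (EtDesc.adjSh f).left_triangle_components F
  have hpull : IsIso ((EtDesc.pullSh f).map ((EtDesc.adjSh f).unit.app F)) :=
    isIso_of_comp_hom_eq_id _ ht
  refine An92.EtSets.isIso_of_stalks_sets _ fun K _ _ ξ => ?_
  have h1 : IsIso ((An92.EtSets.stalkSh (ξ ≫ inv f)).map ((EtDesc.pullSh f).map ((EtDesc.adjSh f).unit.app F))) :=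
    inferInstance
  have h2 := (NatIso.isIso_map_iff (An92.EtSets.stalkPullShIso f (ξ ≫ inv f)) _).1 h1
  rw [Category.assoc, IsIso.inv_hom_id, Category.comp_id] at h2
  exact (CategoryTheory.isIso_iff_bijective _).1 h2

theorem compSh_isIso_comp [IsIso f] : CompSh (f ≫ g) ↔ CompSh g :=
  ⟨compSh_of_comp f g (compSh_of_isIso f), compSh_comp f g (compSh_of_isIso f)⟩

/-- The projection of an etale scheme along a composite is the composite of projections. -/
theorem prj_comp (V : Z.Etale) :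
    EtAcyc.prj f ((EtCoh.bc g).obj V) ≫ EtAcyc.prj g V =
      (pullbackLeftPullbackSndIso V.hom g f).hom ≫ EtAcyc.prj (f ≫ g) V :=
  (pullbackLeftPullbackSndIso_hom_fst V.hom g f).symm

theorem isAcyclicN_comp_iff (L : Set ℕ) (n : ℕ) (hf : EtAcyc.IsAcyclicN f L n) :
    EtAcyc.IsAcyclicN g L n ↔ EtAcyc.IsAcyclicN (f ≫ g) L n := by
  refine forall_congr' fun V => ?_
  have e := compN_isIso_comp (pullbackLeftPullbackSndIso V.hom g f).hom (EtAcyc.prj (f ≫ g) V) L n
  rw [← prj_comp] at e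
  rw [← e]
  exact ⟨compN_comp _ _ (hf _), compN_of_comp _ _ (hf _)⟩

theorem isZeroAcyclic_comp_iff (hf : EtAcyc.IsZeroAcyclic f) :
    EtAcyc.IsZeroAcyclic g ↔ EtAcyc.IsZeroAcyclic (f ≫ g) := by
  refine forall_congr' fun V => ?_
  change CompSh (EtAcyc.prj g V) ↔ CompSh (EtAcyc.prj (f ≫ g) V)
  have e := compSh_isIso_comp (pullbackLeftPullbackSndIso V.hom g f).hom (EtAcyc.prj (f ≫ g) V)
  rw [← prj_comp] at e
  rw [← e]
  exact ⟨compSh_comp _ _ (hf ((EtCoh.bc g).obj V)), compSh_of_comp _ _ (hf ((EtCoh.bc g).obj V))⟩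

end Groth.Agent.Henz21.EtAcycComp
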