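import Groth.Agent.EtCore45.ExtAdjoint
import Groth.Agent.SiteCoh.Torsion

/-!
The truncated comparison of `Ext` groups along an exact left adjoint, and a vanishing criterion
for derived functors of the right adjoint.
-/

set_option autoImplicit false

universe w v v' u u'

open CategoryTheory CategoryTheory.Limits CategoryTheory.Abelian

namespace Groth.Agent.Henz21.EtAcycComp

open EtCore45

variable {A : Type u} [Category.{v} A] [Abelian A] [HasExt.{w} A]
  {B : Type u'} [Category.{v'} B] [Abelian B] [HasExt.{w} B] [EnoughInjectives B]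
  {G : A ⥤ B} [G.Additive] [PreservesFiniteLimits G] [PreservesFiniteColimits G]
  {R : B ⥤ A} [R.Additive] (adj : G ⊣ R) {X : B} {X' : A} (η : X ⟶ G.obj X')

/-- Connecting maps and the transfer, for a sequence mapping to the image sequence. -/
theorem adjTransfer_extClass' {S : ShortComplex B} (hS : S.ShortExact) {S' : ShortComplex A}
    (hS' : S'.ShortExact) (i₁ : S'.X₁ ⟶ R.obj S.X₁) (i₂ : S'.X₂ ⟶ R.obj S.X₂) (i₃ : S'.X₃ ⟶ R.obj S.X₃)
    (c₁ : i₁ ≫ R.map S.f = S'.f ≫ i₂) (c₂ : i₂ ≫ R.map S.g = S'.g ≫ i₃)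
    {n m : ℕ} (h : n + 1 = m) (ξ : Ext.{w} X' S'.X₃ n) :
    adjTransfer adj η S.X₁ m ((ξ.comp hS'.extClass h).comp (Ext.mk₀ i₁) (add_zero m)) =
      (adjTransfer adj η S.X₃ n (ξ.comp (Ext.mk₀ i₃) (add_zero n))).comp hS.extClass h := by
  let φ : S'.map G ⟶ S :=
    { τ₁ := (adj.homEquiv _ _).symm i₁
      τ₂ := (adj.homEquiv _ _).symm i₂
      τ₃ := (adj.homEquiv _ _).symm i₃
      comm₁₂ := by
        exact (adj.homEquiv_naturality_right_symm i₁ S.f).symm.trans
          ((congrArg (adj.homEquiv _ _).symm c₁).trans (adj.homEquiv_naturality_left_symm S'.f i₂))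
      comm₂₃ := by
        exact (adj.homEquiv_naturality_right_symm i₂ S.g).symm.trans
          ((congrArg (adj.homEquiv _ _).symm c₂).trans (adj.homEquiv_naturality_left_symm S'.g i₃)) }
  have key := ShortComplex.ShortExact.extClass_naturality (hS'.map_of_exact G) hS φ
  rw [← Ext.mapExactFunctor_extClass G hS'] at key
  have e₁ : G.map i₁ ≫ adj.counit.app S.X₁ = φ.τ₁ := (adj.homEquiv_counit _ _ _).symm
  have e₃ : G.map i₃ ≫ adj.counit.app S.X₃ = φ.τ₃ := (adj.homEquiv_counit _ _ _).symm
  rw [adjTransfer_apply, adjTransfer_apply, SiteCoh.extTransfer_naturality, SiteCoh.extTransfer_naturality]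
  simp only [Ext.comp_assoc_of_second_deg_zero, Ext.mk₀_comp_mk₀]
  rw [e₁, e₃]
  refine (congrArg (fun z => Ext.comp z (Ext.mk₀ φ.τ₁) (add_zero m))
    (SiteCoh.extTransfer_comp G η ξ hS'.extClass h)).trans ?_
  refine (Ext.comp_assoc _ _ _ h (add_zero 1) (by omega)).trans ?_
  exact congrArg (fun z => (SiteCoh.extTransfer G η S'.X₃ n ξ).comp z h) key

/-- Injectivity in degree one needs no acyclicity. -/
theorem adjTransfer_injective_one [IsIso η] (F : B) : Function.Injective (adjTransfer adj η F 1) := by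
  let S : ShortComplex B :=
    ShortComplex.mk (Injective.ι F) (cokernel.π (Injective.ι F)) (cokernel.condition _)
  have hS : S.ShortExact :=
    { exact := ShortComplex.exact_of_g_is_cokernel _ (cokernelIsCokernel (Injective.ι F))
      mono_f := inferInstanceAs (Mono (Injective.ι F))
      epi_g := inferInstanceAs (Epi (cokernel.π _)) }
  have hI : Injective S.X₂ := inferInstanceAs (Injective (Injective.under F))
  have hI' : Injective (R.obj S.X₂) := Injective.injective_of_adjoint adj S.X₂
  have : PreservesLimitsOfSize.{0, 0} R := adj.rightAdjoint_preservesLimits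
  have : PreservesFiniteLimits R := PreservesLimitsOfSize.preservesFiniteLimits _
  have hl : (S.map R).Exact ∧ Mono (R.map S.f) :=
    (((Functor.preservesFiniteLimits_tfae R).out 3 0).1 this :
      ∀ S : ShortComplex B, S.ShortExact → (S.map R).Exact ∧ Mono (R.map S.f)) S hS
  have := hl.2
  let S' : ShortComplex A := ShortComplex.mk (R.map S.f) (cokernel.π (R.map S.f)) (cokernel.condition _)
  have hS' : S'.ShortExact :=
    { exact := ShortComplex.exact_of_g_is_cokernel _ (cokernelIsCokernel (R.map S.f))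
      mono_f := hl.2
      epi_g := inferInstanceAs (Epi (cokernel.π _)) }
  let i₃ : S'.X₃ ⟶ R.obj S.X₃ := cokernel.desc (R.map S.f) (R.map S.g) (by rw [← R.map_comp, S.zero, R.map_zero])
  have hi₃ : Mono i₃ := hl.1.mono_cokernelDesc
  rw [injective_iff_map_eq_zero]
  intro ξ hξ
  have : Subsingleton (Ext.{w} X' S'.X₂ 1) := Ext.subsingleton_of_injective X' (R.obj S.X₂) 0
  obtain ⟨x, rfl⟩ := Ext.covariant_sequence_exact₁ X' hS' ξ (Subsingleton.elim _ _) (zero_add 1)
  have hT := adjTransfer_extClass' adj η hS hS' (𝟙 _) (𝟙 _) i₃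
    ((Category.id_comp _).trans (Category.comp_id _).symm)
    ((Category.id_comp _).trans (cokernel.π_desc _ _ _).symm) (zero_add 1) x
  rw [Ext.comp_mk₀_id] at hT
  obtain ⟨y, hy⟩ := Ext.covariant_sequence_exact₃ X hS _ (zero_add 1) (hT.symm.trans hξ)
  obtain ⟨y', rfl⟩ := (adjTransfer_bijective_zero adj η S.X₂).2 y
  have hx := (adjTransfer_bijective_zero adj η S.X₃).1 ((adjTransfer_naturality adj η y' S.g).trans hy)
  obtain ⟨x, rfl⟩ := Ext.addEquiv₀.symm.surjective x
  obtain ⟨y', rfl⟩ := Ext.addEquiv₀.symm.surjective y'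
  have hxy : y' ≫ R.map S.g = x ≫ i₃ :=
    (Ext.mk₀_bijective _ _).1 ((Ext.mk₀_comp_mk₀ y' (R.map S.g)).symm.trans (hx.trans (Ext.mk₀_comp_mk₀ x i₃)))
  have hxy' : x = y' ≫ S'.g := by
    rw [← cancel_mono i₃, ← hxy, Category.assoc]
    exact congrArg (y' ≫ ·) (cokernel.π_desc _ _ _).symm
  rw [hxy']
  change (Ext.mk₀ _).comp _ _ = 0
  rw [← Ext.mk₀_comp_mk₀]
  exact (Ext.comp_assoc_of_second_deg_zero _ _ _ _).trans
    ((congrArg (Ext.comp _ · (zero_add 1)) hS'.comp_extClass).trans (Ext.comp_zero _ _ _ _ _))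

/-- The truncated comparison. -/
theorem adjTransfer_bijective_trunc [IsIso η] :
    ∀ (n : ℕ) (F : B), (∀ q : ℕ, 1 ≤ q → q ≤ n → IsZero ((R.rightDerived q).obj F)) →
      (∀ q : ℕ, q ≤ n → Function.Bijective (adjTransfer adj η F q)) ∧
        Function.Injective (adjTransfer adj η F (n + 1)) := by
  intro n
  induction n with
  | zero =>
    refine fun F _ => ⟨fun q hq => ?_, adjTransfer_injective_one adj η F⟩
    obtain rfl := Nat.le_zero.1 hq
    exact adjTransfer_bijective_zero adj η F
  | succ n ih =>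
    intro F hF
    obtain ⟨ihb, ihi⟩ := ih F fun q h1 h2 => hF q h1 (h2.trans n.le_succ)
    let S : ShortComplex B :=
      ShortComplex.mk (Injective.ι F) (cokernel.π (Injective.ι F)) (cokernel.condition _)
    have hS : S.ShortExact :=
      { exact := ShortComplex.exact_of_g_is_cokernel _ (cokernelIsCokernel (Injective.ι F))
        mono_f := inferInstanceAs (Mono (Injective.ι F))
        epi_g := inferInstanceAs (Epi (cokernel.π _)) }
    have hI : Injective S.X₂ := inferInstanceAs (Injective (Injective.under F))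
    have hS' : (S.map R).ShortExact :=
      shortExact_map_of_isZero_rightDerived adj hS (hF 1 le_rfl (by omega))
    have hI' : Injective (R.obj S.X₂) := Injective.injective_of_adjoint adj S.X₂
    obtain ⟨Δ⟩ := RD97.nonempty_derivedLES R
    have hQ : ∀ q : ℕ, 1 ≤ q → q ≤ n → IsZero ((R.rightDerived q).obj S.X₃) := by
      intro q hq hqn
      obtain ⟨q, rfl⟩ := Nat.exists_eq_add_one.2 hq
      exact (Δ.exact₃ S hS (q + 1) (q + 2) rfl).isZero_X₂
        ((R.isZero_rightDerived_obj_injective_succ q S.X₂).eq_of_src _ _)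
        ((hF (q + 2) (by omega) (by omega)).eq_of_tgt _ _)
    obtain ⟨hCb, hCi⟩ := ih S.X₃ hQ
    have surj : Function.Surjective (adjTransfer adj η F (n + 1)) := by
      intro z
      have := Ext.subsingleton_of_injective.{w} X S.X₂ n
      obtain ⟨w', rfl⟩ := Ext.covariant_sequence_exact₁ X hS z
        (Subsingleton.elim (α := Ext X S.X₂ (n + 1)) _ _) rfl
      obtain ⟨x, rfl⟩ := (hCb n le_rfl).2 w'
      exact ⟨x.comp hS'.extClass rfl, adjTransfer_extClass adj η hS hS' rfl x⟩
    refine ⟨fun q hq => ?_, ?_⟩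
    · rcases Nat.lt_or_eq_of_le hq with hq | rfl
      · exact ihb q (Nat.le_of_lt_succ hq)
      · exact ⟨ihi, surj⟩
    · rw [injective_iff_map_eq_zero]
      intro ξ hξ
      have := Ext.subsingleton_of_injective.{w} X' (R.obj S.X₂) (n + 1)
      have := Ext.subsingleton_of_injective.{w} X S.X₂ n
      obtain ⟨x, rfl⟩ := Ext.covariant_sequence_exact₁ X' hS' ξ
        (Subsingleton.elim (α := Ext X' (R.obj S.X₂) (n + 2)) _ _) rfl
      replace hξ := (adjTransfer_extClass adj η hS hS' rfl x).symm.trans hξ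
      obtain ⟨y, hy⟩ := Ext.covariant_sequence_exact₃ X hS _ rfl hξ
      obtain rfl := Subsingleton.elim (α := Ext X S.X₂ (n + 1)) y 0
      have hx : x = 0 := hCi ((hy.symm.trans (Ext.zero_comp _ _ _ _ _)).trans (map_zero _).symm)
      rw [hx]
      exact Ext.zero_comp _ _ _ _ _

omit [G.Additive] [PreservesFiniteLimits G] [PreservesFiniteColimits G] [HasExt.{w} A] in
include adj in
/-- If every class on a generator is killed by the inverse image of an epimorphism, the derived
functor of the right adjoint vanishes. -/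
theorem isZero_rightDerived_of_killed {ι : Type*} (K : ι → A)
    (hgen : ∀ {M N : A} (f : M ⟶ N), (∀ (i : ι) (s : K i ⟶ M), s ≫ f = 0) → f = 0) :
    ∀ (q : ℕ) (F : B), (∀ (i : ι) (x : Ext.{w} (G.obj (K i)) F (q + 1)), ∃ (E : A) (π : E ⟶ K i), Epi π ∧
      (Ext.mk₀ (G.map π)).comp x (zero_add (q + 1)) = 0) → IsZero ((R.rightDerived (q + 1)).obj F) := by
  have : PreservesLimitsOfSize.{0, 0} R := adj.rightAdjoint_preservesLimits
  have : PreservesFiniteLimits R := PreservesLimitsOfSize.preservesFiniteLimits _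
  obtain ⟨Δ⟩ := RD97.nonempty_derivedLES R
  intro q
  induction q with
  | zero =>
    intro F hF
    let S : ShortComplex B :=
      ShortComplex.mk (Injective.ι F) (cokernel.π (Injective.ι F)) (cokernel.condition _)
    have hS : S.ShortExact :=
      { exact := ShortComplex.exact_of_g_is_cokernel _ (cokernelIsCokernel (Injective.ι F))
        mono_f := inferInstanceAs (Mono (Injective.ι F))
        epi_g := inferInstanceAs (Epi (cokernel.π _)) }
    have hI : Injective S.X₂ := inferInstanceAs (Injective (Injective.under F))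
    have hepi : Epi (R.map S.g) := by
      refine Preadditive.epi_of_cokernel_zero (hgen _ fun i s => ?_)
      let t : G.obj (K i) ⟶ S.X₃ := (adj.homEquiv _ _).symm s
      obtain ⟨E, π, hπ, hk⟩ := hF i ((Ext.mk₀ t).comp hS.extClass (zero_add 1))
      rw [Ext.mk₀_comp_mk₀_assoc] at hk
      obtain ⟨y, hy⟩ := Ext.covariant_sequence_exact₃ _ hS (Ext.mk₀ (G.map π ≫ t)) (zero_add 1) hk
      obtain ⟨y, rfl⟩ := Ext.addEquiv₀.symm.surjective y
      have e : y ≫ S.g = G.map π ≫ t :=
        (Ext.mk₀_bijective _ _).1 ((Ext.mk₀_comp_mk₀ y S.g).symm.trans hy)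
      have e' : (adj.homEquiv _ _) y ≫ R.map S.g = π ≫ s := by
        rw [← adj.homEquiv_naturality_right, e, adj.homEquiv_naturality_left, Equiv.apply_symm_apply]
      rw [← cancel_epi π, ← Category.assoc, ← e', Category.assoc, cokernel.condition, comp_zero, comp_zero]
    have hz := R.isZero_rightDerived_obj_injective_succ 0 S.X₂
    have he : Epi ((R.rightDerived 0).map S.g) := by
      have hn := R.rightDerivedZeroIsoSelf.hom.naturality S.g
      rw [← cancel_mono (R.rightDerivedZeroIsoSelf.inv.app S.X₃), Category.assoc,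
        Iso.hom_inv_id_app, Category.comp_id] at hn
      rw [hn]
      infer_instance
    refine (Δ.exact₁ S hS 0 1 rfl).isZero_X₂ ?_ (hz.eq_of_tgt _ _)
    rw [← cancel_epi ((R.rightDerived 0).map S.g), comp_zero]
    exact Δ.comp_δ S hS 0 1 rfl
  | succ q ih =>
    intro F hF
    let S : ShortComplex B :=
      ShortComplex.mk (Injective.ι F) (cokernel.π (Injective.ι F)) (cokernel.condition _)
    have hS : S.ShortExact :=
      { exact := ShortComplex.exact_of_g_is_cokernel _ (cokernelIsCokernel (Injective.ι F))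
        mono_f := inferInstanceAs (Mono (Injective.ι F))
        epi_g := inferInstanceAs (Epi (cokernel.π _)) }
    have hI : Injective S.X₂ := inferInstanceAs (Injective (Injective.under F))
    have hC : IsZero ((R.rightDerived (q + 1)).obj S.X₃) := by
      refine ih S.X₃ fun i x => ?_
      obtain ⟨E, π, hπ, hk⟩ := hF i (x.comp hS.extClass rfl)
      rw [← Ext.comp_assoc _ _ _ (zero_add (q + 1)) rfl (by omega)] at hk
      obtain ⟨y, hy⟩ := Ext.covariant_sequence_exact₃ _ hS _ rfl hk
      have := Ext.subsingleton_of_injective.{w} (G.obj E) S.X₂ q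
      obtain rfl := Subsingleton.elim (α := Ext (G.obj E) S.X₂ (q + 1)) y 0
      exact ⟨E, π, hπ, hy.symm.trans (Ext.zero_comp _ _ _ _ _)⟩
    exact (Δ.exact₁ S hS (q + 1) (q + 2) rfl).isZero_X₂ (hC.eq_of_src _ _)
      ((R.isZero_rightDerived_obj_injective_succ (q + 1) S.X₂).eq_of_tgt _ _)

end Groth.Agent.Henz21.EtAcycComp
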