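import Groth.Agent.Henz21.EtAcyc.SquareSect
import Groth.Agent.EtCore45.MVExt
import Groth.Agent.Unr55.Et.PullExact

/-!
Inverse image of the objects representing cohomology over etale schemes.
-/

set_option autoImplicit false
set_option backward.isDefEq.respectTransparency.types false

universe u w v₁ v₂ v₃ v₄ u₁ u₂ u₃ u₄

open CategoryTheory CategoryTheory.Limits CategoryTheory.Abelian AlgebraicGeometry Opposite
open Groth.Agent.EtCore45 Groth.Agent.EtCore45.MV

namespace Groth.Agent.Henz21.EtAcycComp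

/-- Two composites of exact functors compared by a natural transformation act compatibly on `Ext`. -/
theorem mapExt_natural₂ {A : Type u₁} [Category.{v₁} A] [Abelian A] [HasExt.{w} A] [EnoughInjectives A]
    {B : Type u₂} [Category.{v₂} B] [Abelian B] [HasExt.{w} B]
    {B' : Type u₃} [Category.{v₃} B'] [Abelian B'] [HasExt.{w} B']
    {D : Type u₄} [Category.{v₄} D] [Abelian D] [HasExt.{w} D]
    (F : A ⥤ B) [F.Additive] [PreservesFiniteLimits F] [PreservesFiniteColimits F]
    (G : B ⥤ D) [G.Additive] [PreservesFiniteLimits G] [PreservesFiniteColimits G]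
    (F' : A ⥤ B') [F'.Additive] [PreservesFiniteLimits F'] [PreservesFiniteColimits F']
    (G' : B' ⥤ D) [G'.Additive] [PreservesFiniteLimits G'] [PreservesFiniteColimits G']
    (η : F ⋙ G ⟶ F' ⋙ G') (n : ℕ) {P Q : A} (e : Ext.{w} P Q n) :
    ((e.mapExactFunctor F).mapExactFunctor G).comp (Ext.mk₀ (η.app Q)) (add_zero n) =
      (Ext.mk₀ (η.app P)).comp ((e.mapExactFunctor F').mapExactFunctor G') (zero_add n) := by
  have := comp_preservesFiniteLimits F' G'
  have := comp_preservesFiniteColimits F' G'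
  have h1 := mapExt_natural F G (F' ⋙ G') η n e
  have h2 : (e.mapExactFunctor F').mapExactFunctor G' = e.mapExactFunctor (F' ⋙ G') := by
    have h := mapExt_natural F' G' (F' ⋙ G') (𝟙 (F' ⋙ G')) n e
    rw [NatTrans.id_app, NatTrans.id_app] at h
    exact (Ext.comp_mk₀_id _).symm.trans (h.trans (Ext.mk₀_id_comp _))
  exact h1.trans (congrArg (fun z => (Ext.mk₀ (η.app P)).comp z (zero_add n)) h2.symm)

variable {X Y U P₀ : Scheme.{u}} {j : U ⟶ Y} [Etale j] {g : X ⟶ Y} {g' : P₀ ⟶ U} {j' : P₀ ⟶ X} [Etale j']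

/-- The universal class of the inverse image. -/
noncomputable def vMor (w : g' ≫ j = j' ≫ g) :
    EtCoh.const P₀ ℤ ⟶ (EtCoh.pull j').obj ((EtCoh.pull g).obj (P j)) :=
  (EtCore.pullConst g' ℤ).inv ≫ (EtCoh.pull g').map (univ j) ≫ ((sqIso w).app (P j)).hom

theorem vMor_bijective (sq : IsPullback g' j' j g) (A : EtCoh.Ab X) :
    Function.Bijective fun ψ : (EtCoh.pull g).obj (P j) ⟶ A => vMor sq.w ≫ (EtCoh.pull j').map ψ := by
  obtain ⟨d, hd, hv⟩ := sectOf_square sq.w (univ j)
  have := isIso_of_isPullback sq d hd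
  have key : ∀ ψ : (EtCoh.pull g).obj (P j) ⟶ A,
      sectOf j' (vMor sq.w ≫ (EtCoh.pull j').map ψ) =
        A.obj.map d.op (S j ((EtCoh.pullPushAdj g).homEquiv (P j) A ψ)) := by
    intro ψ
    rw [sectOf_comp, vMor, hv]
    refine (app_map ψ d _).trans (congrArg (A.obj.map d.op) ?_)
    rw [S, sectOf_comp, Adjunction.homEquiv_unit]
    rfl
  have h1 : Function.Bijective (A.obj.map d.op) := ConcreteCategory.bijective_of_isIso _
  have h2 : Function.Bijective fun ψ : (EtCoh.pull g).obj (P j) ⟶ A =>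
      sectOf j' (vMor sq.w ≫ (EtCoh.pull j').map ψ) := by
    simp only [key]
    exact h1.comp ((S_bijective j ((EtCoh.push g).obj A)).comp (Equiv.bijective _))
  exact (Function.Bijective.of_comp_iff' (sectOf_bijective j' A) _).1 h2

/-- Inverse image on `Ext` groups out of `P j` is bijective exactly when pullback on cohomology is. -/
theorem mapExt_bijective_iff_Hpull (sq : IsPullback g' j' j g) [PreservesFiniteLimits (EtCoh.pull g)]
    [PreservesFiniteLimits (EtCoh.pull g')] (F : EtCoh.Ab Y) (q : ℕ) :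
    (Function.Bijective fun e : Ext (P j) F q => e.mapExactFunctor (EtCoh.pull g)) ↔
      Function.Bijective (EtCore.Hpull g' ((EtCoh.pull j).obj F) q) := by
  have := Unr55.EtSh.preservesFiniteLimits_pull j
  have := Unr55.EtSh.preservesFiniteLimits_pull j'
  let κ := (sqIso sq.w).app F
  let T := SiteCoh.extTransfer (EtCoh.pull j') (vMor sq.w) ((EtCoh.pull g).obj F) q
  have hT : Function.Bijective T :=
    SiteCoh.extTransfer_bijective (EtCoh.pull j') (vMor sq.w) (vMor_bijective sq)
      (fun J hJ m => by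
        have := injective_pull j' J
        exact Ext.subsingleton_of_injective _ _ m) q _
  have hκ : Function.Bijective fun x : EtCoh.H P₀ ((EtCoh.pull g').obj ((EtCoh.pull j).obj F)) q =>
      x.comp (Ext.mk₀ κ.hom) (add_zero q) := by
    refine Function.bijective_iff_has_inverse.2 ⟨fun y => y.comp (Ext.mk₀ κ.inv) (add_zero q), fun x => ?_, fun y => ?_⟩
    · refine (Ext.comp_assoc_of_second_deg_zero _ _ _ _).trans ?_
      rw [Ext.mk₀_comp_mk₀, Iso.hom_inv_id]
      exact Ext.comp_mk₀_id _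
    · refine (Ext.comp_assoc_of_second_deg_zero _ _ _ _).trans ?_
      rw [Ext.mk₀_comp_mk₀, Iso.inv_hom_id]
      exact Ext.comp_mk₀_id _
  have key : ∀ e : Ext (P j) F q, T (e.mapExactFunctor (EtCoh.pull g)) =
      (EtCore.Hpull g' ((EtCoh.pull j).obj F) q (tr j F q e)).comp (Ext.mk₀ κ.hom) (add_zero q) := by
    intro e
    have hn := mapExt_natural₂ (EtCoh.pull j) (EtCoh.pull g') (EtCoh.pull g) (EtCoh.pull j')
      (sqIso sq.w).hom q e
    symm
    change ((Ext.mk₀ (EtCore.pullConst g' ℤ).inv).comp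
      (((Ext.mk₀ (univ j)).comp (e.mapExactFunctor (EtCoh.pull j)) (zero_add q)).mapExactFunctor (EtCoh.pull g'))
      (zero_add q)).comp (Ext.mk₀ κ.hom) (add_zero q) =
      (Ext.mk₀ (vMor sq.w)).comp ((e.mapExactFunctor (EtCoh.pull g)).mapExactFunctor (EtCoh.pull j')) (zero_add q)
    rw [Ext.mapExactFunctor_comp, Ext.mapExactFunctor_mk₀, Ext.mk₀_comp_mk₀_assoc,
      Ext.comp_assoc_of_third_deg_zero]
    refine (congrArg (fun z => (Ext.mk₀ ((EtCore.pullConst g' ℤ).inv ≫ (EtCoh.pull g').map (univ j))).comp z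
      (zero_add q)) hn).trans ?_
    refine (Ext.mk₀_comp_mk₀_assoc _ _ _).trans ?_
    rw [vMor, ← Category.assoc]
    rfl
  have e1 : (T ∘ fun e : Ext (P j) F q => e.mapExactFunctor (EtCoh.pull g)) =
      (fun x : EtCoh.H P₀ ((EtCoh.pull g').obj ((EtCoh.pull j).obj F)) q => x.comp (Ext.mk₀ κ.hom) (add_zero q)) ∘
        (EtCore.Hpull g' ((EtCoh.pull j).obj F) q) ∘ (tr j F q) := funext key
  rw [← hT.of_comp_iff' (fun e : Ext (P j) F q => e.mapExactFunctor (EtCoh.pull g)), e1, hκ.of_comp_iff',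
    Function.Bijective.of_comp_iff _ (tr_bijective j F q)]

theorem mapExt_bijective_of_Hpull (sq : IsPullback g' j' j g) [PreservesFiniteLimits (EtCoh.pull g)]
    [PreservesFiniteLimits (EtCoh.pull g')] (F : EtCoh.Ab Y) (q : ℕ)
    (h : Function.Bijective (EtCore.Hpull g' ((EtCoh.pull j).obj F) q)) :
    Function.Bijective fun e : Ext (P j) F q => e.mapExactFunctor (EtCoh.pull g) :=
  (mapExt_bijective_iff_Hpull sq F q).2 h

end Groth.Agent.Henz21.EtAcycComp
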