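import Groth.Prelude.Def_EtAcyc
import Groth.Agent.EtCore45.Acyclic
import Groth.Agent.Henz21.EtAcyc.PullP
import Groth.Agent.Henz21.EtAcyc.LerayTrunc
import Groth.Agent.Henz21.EtAcyc.Comp

/-!
Acyclicity through the unit and the higher direct images.
-/

set_option autoImplicit false
set_option backward.isDefEq.respectTransparency.types false

universe u

open CategoryTheory CategoryTheory.Limits CategoryTheory.Abelian AlgebraicGeometry Opposite
open Groth.Agent.EtCore45 Groth.Agent.EtCore45.MV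

namespace Groth.Agent.Henz21.EtAcycComp

variable {X Y : Scheme.{u}}

theorem compN_of_vanish (g : X ⟶ Y) {L : Set ℕ} {n : ℕ}
    (h : ∀ F : EtCoh.Ab Y, EtAcyc.IsLTorsion L F → IsIso ((EtCoh.pullPushAdj g).unit.app F) ∧
      ∀ q : ℕ, 1 ≤ q → q ≤ n → IsZero ((EtCoh.Rpush g q).obj ((EtCoh.pull g).obj F))) :
    EtAcyc.CompN g L n := by
  intro F hF _
  obtain ⟨hu, hR⟩ := h F hF
  let adj := EtCoh.pullPushAdj g
  obtain ⟨hb, hi⟩ := adjTransfer_bijective_trunc.{u + 1} adj (EtCore.pullConst g ℤ).inv n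
    ((EtCoh.pull g).obj F) hR
  have key : ∀ q, (EtCore.Hpull g F q : EtCoh.H Y F q → _) =
      adjTransfer adj (EtCore.pullConst g ℤ).inv ((EtCoh.pull g).obj F) q ∘
        (fun e => e.comp (Ext.mk₀ (adj.unit.app F)) (add_zero q)) := fun q => funext fun e => by
    change _ = adjTransfer adj (EtCore.pullConst g ℤ).inv ((EtCoh.pull g).obj F) q
      (e.comp (Ext.mk₀ (adj.unit.app F)) (add_zero q))
    rw [adjTransfer_apply, SiteCoh.extTransfer_naturality, Ext.comp_assoc_of_second_deg_zero, Ext.mk₀_comp_mk₀]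
    rw [adj.left_triangle_components F, Ext.comp_mk₀_id]
    rfl
  have hpost : ∀ q, Function.Bijective
      (fun e : EtCoh.H Y F q => e.comp (Ext.mk₀ (adj.unit.app F)) (add_zero q)) := fun q => by
    refine Function.bijective_iff_has_inverse.2
      ⟨fun y => y.comp (Ext.mk₀ (inv (adj.unit.app F))) (add_zero q), fun x => ?_, fun y => ?_⟩
    · refine (Ext.comp_assoc_of_second_deg_zero _ _ _ _).trans ?_
      rw [Ext.mk₀_comp_mk₀, IsIso.hom_inv_id]
      exact Ext.comp_mk₀_id _
    · refine (Ext.comp_assoc_of_second_deg_zero _ _ _ _).trans ?_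
      rw [Ext.mk₀_comp_mk₀, IsIso.inv_hom_id]
      exact Ext.comp_mk₀_id _
  exact ⟨fun q hq => by rw [key]; exact (hb q hq).comp (hpost q),
    by rw [key]; exact hi.comp (hpost (n + 1)).1⟩

theorem S_comp {U : Scheme.{u}} (j : U ⟶ Y) [Etale j] {A B : EtCoh.Ab Y} (φ : P j ⟶ A) (f : A ⟶ B) :
    S j (φ ≫ f) = f.hom.app (op _) (S j φ) := by
  rw [S, S, Functor.map_comp, ← Category.assoc, sectOf_comp]

theorem eq_conj_of_natural {C D : Type*} [Category C] [Category D] {A B : Cᵒᵖ ⥤ D} (η : A ⟶ B) {a b : Cᵒᵖ}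
    (e : a ≅ b) : η.app a = A.map e.hom ≫ η.app b ≫ B.map e.inv := by
  rw [← η.naturality e.inv, ← Category.assoc, ← A.map_comp, e.hom_inv_id, A.map_id, Category.id_comp]

/-- The generators. -/
noncomputable def gen (W : Y.Etale) : EtCoh.Ab Y :=
  haveI : Etale W.hom := W.prop
  P W.hom

theorem eq_zero_of_gen {M N : EtCoh.Ab Y} (f : M ⟶ N) (h : ∀ (W : Y.Etale) (s : gen W ⟶ M), s ≫ f = 0) :
    f = 0 := by
  refine ObjectProperty.hom_ext _ (NatTrans.ext (funext fun W => ConcreteCategory.hom_ext _ _ fun σ => ?_))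
  obtain ⟨W⟩ := W
  have : Etale W.hom := W.prop
  let e := topCompIso W
  obtain ⟨s, hs⟩ := (S_bijective W.hom M).2 (M.obj.map e.hom.op σ)
  change S W.hom s = _ at hs
  have h1 : f.hom.app (op _) (M.obj.map e.hom.op σ) = 0 :=
    (congrArg _ hs.symm).trans ((S_comp W.hom s f).symm.trans ((congrArg (S W.hom)
      ((h W s).trans (comp_zero (f := s) (Z := N)).symm)).trans ((S_comp W.hom s 0).trans rfl)))
  have h2 : N.obj.map e.inv.op (N.obj.map e.hom.op (f.hom.app (op W) σ)) = f.hom.app (op W) σ :=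
    (map_map N _ _ _).trans (map_endo N _ e.inv_hom_id _)
  rw [← app_map f e.hom σ, h1, map_zero] at h2
  exact h2.symm

theorem compN_bijective {p : X ⟶ Y} {L : Set ℕ} {n : ℕ} (hc : EtAcyc.CompN p L n) {F : EtCoh.Ab Y}
    (hF : EtAcyc.IsLTorsion L F) {q : ℕ} (hq : q ≤ n) [PreservesFiniteLimits (EtCoh.pull p)] :
    Function.Bijective (EtCore.Hpull p F q) :=
  (hc F hF).1 q hq

theorem mapExt_bijective_of_etale (g : X ⟶ Y) [PreservesFiniteLimits (EtCoh.pull g)] (F : EtCoh.Ab Y) (q : ℕ)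
    {U : Scheme.{u}} (j : U ⟶ Y) [Etale j]
    (h : ∀ [PreservesFiniteLimits (EtCoh.pull (pullback.fst j g))],
      Function.Bijective (EtCore.Hpull (pullback.fst j g) ((EtCoh.pull j).obj F) q)) :
    Function.Bijective fun e : Ext (P j) F q => e.mapExactFunctor (EtCoh.pull g) :=
  have := Unr55.EtSh.preservesFiniteLimits_pull (pullback.fst j g)
  mapExt_bijective_of_Hpull (IsPullback.of_hasPullback j g) F q h

theorem compN_prj (g : X ⟶ Y) {L : Set ℕ} {n : ℕ} (hg : EtAcyc.IsAcyclicN g L n) {V₀ U : Scheme.{u}}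
    (v : V₀ ⟶ Y) [Etale v] (j : U ⟶ V₀) [Etale j] :
    EtAcyc.CompN (pullback.fst j (pullback.fst v g)) L n := by
  have hc : EtAcyc.CompN ((pullbackRightPullbackFstIso v g j).hom ≫
      EtAcyc.prj g (Scheme.Etale.mk (j ≫ v))) L n :=
    (compN_isIso_comp _ _ L n).2 (hg (Scheme.Etale.mk (j ≫ v)))
  have e : (pullbackRightPullbackFstIso v g j).hom ≫ EtAcyc.prj g (Scheme.Etale.mk (j ≫ v)) =
      pullback.fst j (pullback.fst v g) := pullbackRightPullbackFstIso_hom_fst v g j
  rw [e] at hc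
  exact hc

/-- Bijectivity of pullback on cohomology over every etale scheme forces the unit to be an isomorphism
and the higher direct images to vanish. -/
theorem vanish_of_Hpull_bijective (g : X ⟶ Y) (F : EtCoh.Ab Y) (n : ℕ)
    (h : ∀ (W : Y.Etale) [PreservesFiniteLimits (EtCoh.pull (pullback.fst W.hom g))] (q : ℕ), q ≤ n →
      Function.Bijective (EtCore.Hpull (pullback.fst W.hom g) ((EtCoh.pull W.hom).obj F) q)) :
    IsIso ((EtCoh.pullPushAdj g).unit.app F) ∧
      ∀ q : ℕ, 1 ≤ q → q ≤ n → IsZero ((EtCoh.Rpush g q).obj ((EtCoh.pull g).obj F)) := by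
  have := Unr55.EtSh.preservesFiniteLimits_pull g
  let adj := EtCoh.pullPushAdj g
  have hmap : ∀ (W : Y.Etale), haveI : Etale W.hom := W.prop
      ∀ q, q ≤ n → Function.Bijective fun e : Ext (P W.hom) F q => e.mapExactFunctor (EtCoh.pull g) := by
    intro W q hq
    have : Etale W.hom := W.prop
    exact mapExt_bijective_of_etale g F q W.hom (h W q hq)
  refine ⟨?_, fun q hq hqn => ?_⟩
  · have key : ∀ W : Y.Etaleᵒᵖ, IsIso ((adj.unit.app F).hom.app W) := by
      intro W
      obtain ⟨W⟩ := W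
      have : Etale W.hom := W.prop
      have h0 : Function.Bijective fun φ : P W.hom ⟶ F => (EtCoh.pull g).map φ := by
        have h1 := (hmap W 0 (Nat.zero_le n)).comp (Ext.mk₀_bijective (P W.hom) F)
        have h2 : ((fun e : Ext (P W.hom) F 0 => e.mapExactFunctor (EtCoh.pull g)) ∘ Ext.mk₀) =
            Ext.mk₀ ∘ fun φ : P W.hom ⟶ F => (EtCoh.pull g).map φ :=
          funext fun φ => Ext.mapExactFunctor_mk₀ _ φ
        rw [h2] at h1
        exact (Function.Bijective.of_comp_iff' (Ext.mk₀_bijective _ _) _).1 h1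
      have h1 : Function.Bijective fun φ : P W.hom ⟶ F => φ ≫ adj.unit.app F := by
        have e : (fun φ : P W.hom ⟶ F => φ ≫ adj.unit.app F) =
            (adj.homEquiv _ _) ∘ fun φ : P W.hom ⟶ F => (EtCoh.pull g).map φ := funext fun φ => by
          change _ = adj.homEquiv _ _ ((EtCoh.pull g).map φ)
          rw [Adjunction.homEquiv_unit]
          exact adj.unit.naturality φ
        rw [e]
        exact (Equiv.bijective _).comp h0
      let η := adj.unit.app F
      let V := (EtShriek.compEtale W.hom).obj (EtCoh.top W.left)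
      have h3 : Function.Bijective (η.hom.app (op V)) := by
        refine (Function.Bijective.of_comp_iff (η.hom.app (op V)) (S_bijective W.hom F)).1 ?_
        rw [show (η.hom.app (op V) ∘ fun φ : P W.hom ⟶ F => S W.hom φ) =
          (fun φ => S W.hom φ) ∘ fun φ : P W.hom ⟶ F => φ ≫ η from funext fun φ => (S_comp W.hom φ η).symm]
        exact (S_bijective W.hom _).comp h1
      have : IsIso (η.hom.app (op V)) := (ConcreteCategory.isIso_iff_bijective _).2 h3
      have hn : η.hom.app (op W) = F.obj.map (topCompIso W).hom.op ≫ η.hom.app (op V) ≫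
          ((EtCoh.push g).obj ((EtCoh.pull g).obj F)).obj.map (topCompIso W).inv.op := by
        exact eq_conj_of_natural η.hom (topCompIso W).op
      rw [hn]
      infer_instance
    have : IsIso ((sheafToPresheaf Y.smallEtaleTopology AddCommGrpCat.{u + 1}).map (adj.unit.app F)) :=
      (NatIso.isIso_of_isIso_app _ : IsIso (adj.unit.app F).hom)
    exact isIso_of_reflects_iso (adj.unit.app F) (sheafToPresheaf _ _)
  · obtain ⟨q, rfl⟩ := Nat.exists_eq_add_one.2 hq
    refine isZero_rightDerived_of_killed.{u + 1} adj gen (fun f hf => eq_zero_of_gen f hf) q _ fun W x => ?_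
    have : Etale W.hom := W.prop
    obtain ⟨e, rfl⟩ := (hmap W (q + 1) hqn).2 x
    obtain ⟨E, π, hπ, hk⟩ := SiteCoh.exists_epi_comp_eq_zero.{u + 1} q F (P W.hom) e
    refine ⟨E, π, hπ, ?_⟩
    have h1 := congrArg ((EtCoh.pull g).mapExtAddHom _ _ (q + 1)) hk
    rw [map_zero, Functor.mapExtAddHom_coe, Ext.mapExactFunctor_comp, Ext.mapExactFunctor_mk₀] at h1
    exact h1

theorem isAcyclicN_iff_vanish (g : X ⟶ Y) (L : Set ℕ) (n : ℕ) :
    EtAcyc.IsAcyclicN g L n ↔
      ∀ (V : Y.Etale) (F : EtCoh.Ab V.left), EtAcyc.IsLTorsion L F →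
        IsIso ((EtCoh.pullPushAdj (EtAcyc.prj g V)).unit.app F) ∧
          ∀ q : ℕ, 1 ≤ q → q ≤ n →
            IsZero ((EtCoh.Rpush (EtAcyc.prj g V) q).obj ((EtCoh.pull (EtAcyc.prj g V)).obj F)) := by
  refine ⟨fun hg V F hF => ?_, fun h V => compN_of_vanish _ (h V)⟩
  refine vanish_of_Hpull_bijective (EtAcyc.prj g V) F n fun W _ q hq => ?_
  have : Etale V.hom := V.prop
  have : Etale W.hom := W.prop
  exact compN_bijective (compN_prj g hg V.hom W.hom) (isLTorsion_pull W.hom hF) hq

end Groth.Agent.Henz21.EtAcycComp
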