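import Groth.Agent.Henz21.EtAcyc.ConstAcyclic
import Groth.Agent.EtCore45.NormalConst

/-!
Constant sheaves on connected schemes; base change of constant sections.
-/

set_option autoImplicit false
set_option backward.isDefEq.respectTransparency.types false

universe u

open CategoryTheory CategoryTheory.Limits AlgebraicGeometry Opposite
open Groth.Agent.EtLA91 Groth.Agent.LocConst45 Groth.Agent.Unr55.EtSh

namespace Groth.Agent.Henz21.EtAcycComp

variable {X : Scheme.{u}}

theorem constσ_surjective_of_preconnected (M : AddCommGrpCat.{u + 1}) (W : X.Etale)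
    (hW : Nontrivial M → PreconnectedSpace W.left) : Function.Surjective (constσ (X := X) M W) := by
  intro s
  choose V g v m hv hm using (isTriv_const M W).surj W (𝟙 W) s
  have hm' : ∀ x, ((Cst X).obj M).obj.map (g x).op s = constσ M (V x) (m x) := fun x => by
    rw [hm x, constσ_map]
  have hmeq : ∀ x y, m x = m y := by
    intro x y
    rcases subsingleton_or_nontrivial M with hM | hM
    · exact Subsingleton.elim _ _
    have := hW hM
    let U : Set W.left := ⋃ z ∈ {z | m z = m x}, Set.range (g z).left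
    have hop : ∀ z, IsOpen (Set.range (g z).left) := fun z =>
      have := etale_left (g z)
      (g z).left.isOpenMap.isOpen_range
    have hU : IsClopen U := by
      refine ⟨⟨?_⟩, isOpen_biUnion fun z _ => hop z⟩
      have e : Uᶜ = ⋃ z ∈ {z | m z ≠ m x}, Set.range (g z).left := by
        ext w
        simp only [U, Set.mem_compl_iff, Set.mem_iUnion, Set.mem_setOf_eq, exists_prop, not_exists, not_and]
        constructor
        · exact fun h => ⟨w, fun hw => h w hw ⟨v w, hv w⟩, ⟨v w, hv w⟩⟩
        · rintro ⟨z, hz, a, ha⟩ z' hz' ⟨b, hb⟩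
          exact hz ((EtCore45.constσ_eq_of_meet M (g z) (g z') s (hm' z) (hm' z') a b (ha.trans hb.symm)).trans hz')
      rw [e]
      exact isOpen_biUnion fun z _ => hop z
    have hmem : y ∈ U := by
      rw [hU.eq_univ ⟨x, Set.mem_biUnion (show m x = m x from rfl) ⟨v x, hv x⟩⟩]
      trivial
    obtain ⟨z, hz, b, hb⟩ := Set.mem_iUnion₂.1 hmem
    exact ((EtCore45.constσ_eq_of_meet M (g y) (g z) s (hm' y) (hm' z) (v y) b ((hv y).trans hb.symm)).trans hz).symm
  rcases isEmpty_or_nonempty W.left with hW0 | ⟨⟨x₀⟩⟩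
  · exact ⟨0, (sect_eq_zero_of_isEmpty _ _).trans (sect_eq_zero_of_isEmpty _ _).symm⟩
  refine ⟨m x₀, ?_⟩
  have hS : Sieve.ofArrows _ g ∈ X.smallEtaleTopology W := mem_topology fun x =>
    ⟨V x, g x, v x, Sieve.ofArrows_mk _ _ x, hv x⟩
  refine (isSheafFor_forget ((Cst X).obj M) hS).isSeparatedFor.ext fun Z f hf => ?_
  obtain ⟨x, a, rfl⟩ := (Sieve.mem_ofArrows_iff _ _ _).1 hf
  change ((Cst X).obj M).obj.map (a ≫ g x).op _ = ((Cst X).obj M).obj.map (a ≫ g x).op _
  rw [map_comp', map_comp', hm', constσ_map, hmeq x₀ x]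

theorem psi_surjective_of_preconnected (M : AddCommGrpCat.{u + 1})
    (hX : Nontrivial M → PreconnectedSpace X) : Function.Surjective (psi X M) := by
  intro y
  obtain ⟨c, rfl⟩ := (Abelian.Ext.mk₀_bijective _ _).2 y
  obtain ⟨m, hm⟩ := constσ_surjective_of_preconnected M (EtCoh.top X) hX (EtCore45.MV.oneSect c)
  let k : intU.{u} ⟶ M :=
    AddCommGrpCat.ofHom ((zmultiplesHom M m).comp AddEquiv.ulift.toAddMonoidHom)
  refine ⟨k, congrArg Abelian.Ext.mk₀ ((EtCore45.MV.oneSect_bijective _).1 ?_)⟩
  exact (oneSect_cst M k).trans ((congrArg (constσ M (EtCoh.top X)) (one_zsmul m)).trans hm)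

end Groth.Agent.Henz21.EtAcycComp
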