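import Groth.Prelude.Def_EtAcyc
import Groth.Agent.EtLA91.ConstTorsion
import Groth.Agent.EtTor93.Basic
import Groth.Agent.Henz21.EtAcyc.Comp
import Groth.Agent.EtCore45.SepClConst
import Groth.Agent.EtCore45.MVSect
import Groth.Agent.EtCore45.PushEpi
import Groth.Agent.LimTop61.ShQuot
import Mathlib.AlgebraicGeometry.FunctionField
import Mathlib.RingTheory.Localization.BaseChange

/-!
Constant torsion coefficients on basic opens of base and total space of an acyclic morphism.
-/

set_option autoImplicit false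
set_option backward.isDefEq.respectTransparency.types false
set_option linter.style.haveILetI false

universe u

open CategoryTheory CategoryTheory.Limits AlgebraicGeometry Opposite TensorProduct
open Groth.Agent.EtLA91 Groth.Agent.LocConst45

namespace Groth.Agent.Henz21.EtAcycComp

variable {X : Scheme.{u}}

/-- Constant sheaves of torsion groups are torsion. -/
theorem isLTorsion_cst {L : Set ℕ} (M : AddCommGrpCat.{u + 1})
    (hM : ∀ m : M, ∃ n : ℕ, EtAcyc.PrimesIn L n ∧ n • m = 0) :
    EtAcyc.IsLTorsion L ((Cst X).obj M) := by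
  intro U s x
  obtain ⟨V, g, v, m, hv, hm⟩ := (isTriv_const M U).surj U (𝟙 U) s x
  obtain ⟨n, hn, hnm⟩ := hM m
  refine ⟨V, g, n, ⟨v, hv⟩, hn, ?_⟩
  rw [hm, constσ_map, ← map_nsmul, hnm, map_zero]

theorem oneSect_cst (M : AddCommGrpCat.{u + 1}) (k : intU.{u} ⟶ M) :
    EtCore45.MV.oneSect ((Cst X).map k) = constσ M (EtCoh.top X) (k (ULift.up (1 : ℤ))) := by
  have h := EtCore45.MV.oneSect_comp (Y := X) (𝟙 ((Cst X).obj intU)) ((Cst X).map k)
  rw [Category.id_comp] at h
  rw [h, ← constσ_natural k (EtCoh.top X)]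
  congr 1

theorem psi_surjective_of_irreducible [IrreducibleSpace X] (M : AddCommGrpCat.{u + 1}) :
    Function.Surjective (psi X M) := by
  intro y
  obtain ⟨c, rfl⟩ := (Abelian.Ext.mk₀_bijective _ _).2 y
  have : IrreducibleSpace (EtCoh.top X).left := ‹IrreducibleSpace X›
  obtain ⟨m, hm⟩ := EtCore45.constσ_surjective_of_irreducible M (EtCoh.top X)
    (EtCore45.MV.oneSect c)
  let k : intU.{u} ⟶ M :=
    AddCommGrpCat.ofHom ((zmultiplesHom M m).comp AddEquiv.ulift.toAddMonoidHom)
  refine ⟨k, congrArg Abelian.Ext.mk₀ ((EtCore45.MV.oneSect_bijective _).1 ?_)⟩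
  exact (oneSect_cst M k).trans ((congrArg (constσ M (EtCoh.top X)) (one_zsmul m)).trans hm)

theorem preconnected_of_psi_surjective (M : AddCommGrpCat.{u + 1}) [Nontrivial M]
    (h : Function.Surjective (psi X M)) : PreconnectedSpace X := by
  refine preconnectedSpace_iff_clopen.2 fun U hU => ?_
  by_contra hne
  obtain ⟨hne1, hne2⟩ := not_or.1 hne
  obtain ⟨a, ha⟩ := Set.nonempty_iff_ne_empty.2 hne1
  obtain ⟨b, hb⟩ := Set.nonempty_compl.2 hne2
  obtain ⟨m, hm⟩ := exists_ne (0 : M)
  let W : ULift.{u} Bool → (EtCoh.top X).left.Opens := fun i =>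
    bif i.down then ⟨U, hU.isOpen⟩ else ⟨Uᶜ, hU.compl.isOpen⟩
  let val : ULift.{u} Bool → M := fun i => bif i.down then m else 0
  obtain ⟨s, hs⟩ := EtCore45.exists_glue_disjoint_sect ((Cst X).obj M) (P := EtCoh.top X) W
    (by
      rintro ⟨_ | _⟩ ⟨_ | _⟩ h
      · exact absurd rfl h
      · exact TopologicalSpace.Opens.coe_disjoint.1 disjoint_compl_left
      · exact TopologicalSpace.Opens.coe_disjoint.1 disjoint_compl_right
      · exact absurd rfl h)
    (eq_top_iff.2 fun p _ => TopologicalSpace.Opens.mem_iSup.2 (by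
      by_cases hp : p ∈ U
      · exact ⟨⟨true⟩, hp⟩
      · exact ⟨⟨false⟩, hp⟩))
    fun i => constσ M (Unr55.EtSh.openSub (EtCoh.top X) (W i)) (val i)
  obtain ⟨ψ, hψ⟩ := (EtCore45.MV.oneSect_bijective _).2 s
  change EtCore45.MV.oneSect ψ = s at hψ
  obtain ⟨k, hk⟩ := h (Abelian.Ext.mk₀ ψ)
  have hk' : (Cst X).map k = ψ := (Abelian.Ext.mk₀_bijective _ _).1 hk
  have key : ∀ (i : ULift.{u} Bool) (p : X), p ∈ W i → val i = k (ULift.up (1 : ℤ)) := by
    intro i p hp
    have : Nonempty (Unr55.EtSh.openSub (EtCoh.top X) (W i)).left := ⟨⟨p, hp⟩⟩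
    refine EtCore45.constσ_injective (X := X) M (Unr55.EtSh.openSub (EtCoh.top X) (W i)) ((hs i).symm.trans ?_)
    rw [← hψ, ← hk', oneSect_cst, constσ_map]
  exact hm ((key ⟨true⟩ a ha).trans (key ⟨false⟩ b hb).symm)

theorem strictHens_stalk_spec' {R : CommRingCat.{u}} [IsDomain R] [IsIntegrallyClosed R]
    [IsSepClosed (FractionRing R)] (x : Spec R) :
    EtCoh.IsStrictlyHenselianLocalRing ((Spec R).presheaf.stalk x) := by
  have : IsSepClosed (Spec R).functionField :=
    LimTop61.isSepClosed_of_ringEquiv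
      (FractionRing.algEquiv R (Spec R).functionField).toRingEquiv
  refine EtCore45.strictHens_stalk_normal (fun y => ?_) x
  let p : PrimeSpectrum R := y
  let : Algebra R ((Spec R).presheaf.stalk y) := (StructureSheaf.toStalk R p).hom.toAlgebra
  have : IsLocalization.AtPrime ((Spec R).presheaf.stalk y) p.asIdeal :=
    StructureSheaf.IsLocalization.to_stalk R p
  exact isIntegrallyClosed_of_isLocalization ((Spec R).presheaf.stalk y) p.asIdeal.primeCompl
    p.asIdeal.primeCompl_le_nonZeroDivisors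

section Stage

variable (A : Type u) [CommRing A] [IsDomain A] [IsIntegrallyClosed A] [IsSepClosed (FractionRing A)]

theorem strictHens_stalk_spec (x : Spec (CommRingCat.of A)) :
    EtCoh.IsStrictlyHenselianLocalRing ((Spec (CommRingCat.of A)).presheaf.stalk x) :=
  @strictHens_stalk_spec' (CommRingCat.of A) ‹IsDomain A› ‹IsIntegrallyClosed A›
    ‹IsSepClosed (FractionRing A)› x

theorem subsingleton_H_stage_base (a : A) (M : AddCommGrpCat.{u + 1}) (q : ℕ) (hq : 0 < q) :
    Subsingleton (EtCoh.H (Spec (CommRingCat.of (Localization.Away a)))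
      ((Cst (Spec (CommRingCat.of (Localization.Away a)))).obj M) q) := by
  let j := Spec.map (CommRingCat.ofHom (algebraMap A (Localization.Away a)))
  have := IsOpenImmersion.of_isLocalization (R := A) (S := Localization.Away a) a
  have h := EtCore45.isAcyclicEt_cst (X := Spec (CommRingCat.of A)) (strictHens_stalk_spec A) M
    (Scheme.Etale.mk j) q hq
  have : Subsingleton ((EtCoh.HF _ q).obj ((EtCoh.pull j).obj ((Cst (Spec (CommRingCat.of A))).obj M))) := h
  have : Subsingleton (EtCoh.H _ ((EtCoh.pull j).obj ((Cst (Spec (CommRingCat.of A))).obj M)) q) := this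
  let e : EtCoh.H _ ((EtCoh.pull j).obj ((Cst (Spec (CommRingCat.of A))).obj M)) q ≃+
      EtCoh.H _ ((Cst (Spec (CommRingCat.of (Localization.Away a)))).obj M) q :=
    ((EtCoh.HF _ q).mapIso ((EtCore.pullConstIso j).app M)).addCommGroupIsoToAddEquiv
  exact e.symm.toEquiv.subsingleton

variable {A}

omit [IsIntegrallyClosed A] [IsSepClosed (FractionRing A)] in
theorem irreducible_stage {a : A} (ha : a ≠ 0) : IrreducibleSpace (Spec (CommRingCat.of (Localization.Away a))) := by
  have : IsDomain (Localization.Away a) :=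
    IsLocalization.isDomain_localization (powers_le_nonZeroDivisors_of_noZeroDivisors ha)
  infer_instance

variable {B : Type u} [CommRing B] [Algebra A B] {L : Set ℕ} {n : ℕ}
  (hac : EtAcyc.IsAcyclicN (Spec.map (CommRingCat.ofHom (algebraMap A B))) L n)
  (M : AddCommGrpCat.{u + 1}) (hM : ∀ m : M, ∃ k : ℕ, EtAcyc.PrimesIn L k ∧ k • m = 0)

include hac hM

theorem stage_facts (a : A) (ha : a ≠ 0) (C : Type u) [CommRing C] [Algebra B C]
    [IsLocalization.Away (algebraMap A B a) C] :
    (∀ q : ℕ, 1 ≤ q → q ≤ n → Subsingleton (EtCoh.H (Spec (CommRingCat.of C)) ((Cst (Spec (CommRingCat.of C))).obj M) q)) ∧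
      Function.Surjective (psi (Spec (CommRingCat.of C)) M) ∧ (Nontrivial M → Nonempty (Spec (CommRingCat.of C))) := by
  let Aa := Localization.Away a
  letI : Algebra A C := ((algebraMap B C).comp (algebraMap A B)).toAlgebra
  haveI : IsScalarTower A B C := IsScalarTower.of_algebraMap_eq fun _ => rfl
  have hu : IsUnit (algebraMap A C a) := IsLocalization.Away.algebraMap_isUnit (S := C) (algebraMap A B a)
  letI : Algebra Aa C := (IsLocalization.Away.lift a hu).toAlgebra
  haveI : IsScalarTower A Aa C :=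
    IsScalarTower.of_algebraMap_eq fun r => (IsLocalization.Away.lift_eq a hu r).symm
  haveI : IsLocalization (Algebra.algebraMapSubmonoid B (Submonoid.powers a)) C := by
    rw [Algebra.algebraMapSubmonoid, Submonoid.map_powers]
    infer_instance
  haveI : Algebra.IsPushout A Aa B C := (Algebra.isPushout_of_isLocalization (Submonoid.powers a) Aa B C).symm
  let j := Spec.map (CommRingCat.ofHom (algebraMap A Aa))
  let g := Spec.map (CommRingCat.ofHom (algebraMap A B))
  let g' := Spec.map (CommRingCat.ofHom (algebraMap Aa C))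
  have := IsOpenImmersion.of_isLocalization (R := A) (S := Aa) a
  have sq : IsPullback g' (Spec.map (CommRingCat.ofHom (algebraMap B C))) j g :=
    isPullback_SpecMap_of_isPushout _ _ _ _ (CommRingCat.isPushout_of_isPushout A Aa B C)
  have hc := hac (Scheme.Etale.mk j)
  have := Unr55.EtSh.preservesFiniteLimits_pull g'
  have hc' : EtAcyc.CompN g' L n := by
    rw [show g' = sq.isoPullback.hom ≫ EtAcyc.prj g (Scheme.Etale.mk j) from sq.isoPullback_hom_fst.symm]
    exact (compN_isIso_comp _ _ L n).2 hc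
  obtain ⟨hb, -⟩ := hc' _ (isLTorsion_cst M hM)
  let iso : ∀ q, EtCoh.H _ ((EtCoh.pull g').obj ((Cst _).obj M)) q ≃+
      EtCoh.H (Spec (CommRingCat.of C)) ((Cst _).obj M) q :=
    fun q => ((EtCoh.HF (Spec (CommRingCat.of C)) q).mapIso
    ((EtCore.pullConstIso g').app M)).addCommGroupIsoToAddEquiv
  have := irreducible_stage (A := A) ha
  refine ⟨fun q hq hqn => ?_, ?_, fun hnt => ?_⟩
  · have := subsingleton_H_stage_base A a M q hq
    have h := (hb q hqn).2.subsingleton
    exact (iso q).symm.toEquiv.subsingleton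
  · intro y
    obtain ⟨x, hx⟩ := (hb 0 (Nat.zero_le n)).2 ((EtCoh.HF _ 0).map ((EtCore.pullConstIso g').inv.app M) y)
    obtain ⟨k, rfl⟩ := psi_surjective_of_irreducible M x
    rw [Hpull_psi] at hx
    exact ⟨k, (ConcreteCategory.bijective_of_isIso
      ((EtCoh.HF (Spec (CommRingCat.of C)) 0).map ((EtCore.pullConstIso g').inv.app M))).1 hx⟩
  · obtain ⟨m, hm⟩ := exists_ne (0 : M)
    let k : intU.{u} ⟶ M :=
      AddCommGrpCat.ofHom ((zmultiplesHom M m).comp AddEquiv.ulift.toAddMonoidHom)
    have hk : k ≠ 0 := fun h => hm ((one_zsmul m).symm.trans (ConcreteCategory.congr_hom h (ULift.up (1 : ℤ))))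
    have hnt : Nontrivial (intU.{u} ⟶ M) := ⟨⟨k, 0, hk⟩⟩
    have : Nontrivial (EtCoh.H (Spec (CommRingCat.of Aa)) ((Cst _).obj M) 0) :=
      (psi_injective (Spec (CommRingCat.of Aa)) M).nontrivial
    have : Nontrivial (EtCoh.H (Spec (CommRingCat.of C)) ((EtCoh.pull g').obj ((Cst _).obj M)) 0) :=
      (hb 0 (Nat.zero_le n)).1.nontrivial
    exact nonempty_of_nontrivial_H0 _ M ((EtCoh.pull g').obj ((Cst _).obj M)) k

end Stage

end Groth.Agent.Henz21.EtAcycComp
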