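import Mathlib.AlgebraicGeometry.FunctionField
import Mathlib.AlgebraicGeometry.ResidueField
import Mathlib.RingTheory.Localization.BaseChange
import Mathlib.AlgebraicGeometry.Morphisms.QuasiSeparated
import Mathlib.AlgebraicGeometry.Pullbacks

/-!
The generic fibre over a local ring of an integral scheme.
-/

set_option autoImplicit false
set_option backward.isDefEq.respectTransparency.types false
set_option linter.style.haveILetI false

universe u

open CategoryTheory CategoryTheory.Limits AlgebraicGeometry TensorProduct

namespace Groth.Agent.Henz21.EtAcycComp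

variable {Y : Scheme.{u}}

theorem quasiCompact_fromSpecResidueField (y : Y) : QuasiCompact (Y.fromSpecResidueField y) := by
  refine (quasiCompact_iff _).2 fun U _ _ => ?_
  have : Subsingleton (Spec (Y.residueField y)) := inferInstanceAs (Subsingleton (PrimeSpectrum (Y.residueField y)))
  exact (Set.subsingleton_of_subsingleton.finite).isCompact

theorem quasiSeparated_fromSpecResidueField (y : Y) : QuasiSeparated (Y.fromSpecResidueField y) := inferInstance

theorem isPullback_of_mono_comp {C : Type*} [Category C] {P X X' Z Z' : C} {a : P ⟶ X} {b : P ⟶ X'}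
    {c : X ⟶ Z} {d : X' ⟶ Z} (h : IsPullback a b c d) (m : Z ⟶ Z') [Mono m] :
    IsPullback a b (c ≫ m) (d ≫ m) :=
  IsPullback.of_isLimit' ⟨by rw [← Category.assoc, h.w, Category.assoc]⟩
    (PullbackCone.IsLimit.mk _
      (fun s => h.lift s.fst s.snd ((cancel_mono m).1 (by simpa only [Category.assoc] using s.condition)))
      (fun s => h.lift_fst _ _ _) (fun s => h.lift_snd _ _ _)
      (fun s l h1 h2 => h.hom_ext (h1.trans (h.lift_fst _ _ _).symm) (h2.trans (h.lift_snd _ _ _).symm)))

/-- The generic fibre of the spectrum of an algebra over a local ring of an integral scheme. -/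
theorem exists_isPullback_generic [IsIntegral Y] (y : Y) (B : Type u) [CommRing B]
    (φ : Y.presheaf.stalk y →+* B) (L : Type u) [CommRing L] [Algebra B L]
    [IsLocalization ((nonZeroDivisors (Y.presheaf.stalk y)).map φ) L] :
    ∃ v : Spec (CommRingCat.of L) ⟶ Spec (Y.residueField (genericPoint Y)),
      IsPullback (Spec.map (CommRingCat.ofHom (algebraMap B L))) v
        (Spec.map (CommRingCat.ofHom φ) ≫ Y.fromSpecStalk y) (Y.fromSpecResidueField (genericPoint Y)) := by
  let A : Type u := Y.presheaf.stalk y
  let K : Type u := Y.functionField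
  letI : Algebra (Y.presheaf.stalk y) B := φ.toAlgebra
  haveI : IsLocalization (Algebra.algebraMapSubmonoid B (nonZeroDivisors (Y.presheaf.stalk y))) L :=
    ‹IsLocalization ((nonZeroDivisors (Y.presheaf.stalk y)).map φ) L›
  letI : Algebra (Y.presheaf.stalk y) L := ((algebraMap B L).comp φ).toAlgebra
  haveI : IsScalarTower (Y.presheaf.stalk y) B L := IsScalarTower.of_algebraMap_eq fun _ => rfl
  have hu : ∀ s : nonZeroDivisors (Y.presheaf.stalk y), IsUnit (algebraMap (Y.presheaf.stalk y) L s) := fun s =>
    IsLocalization.map_units L (⟨φ s, s, s.2, rfl⟩ : (nonZeroDivisors (Y.presheaf.stalk y)).map φ)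
  letI : Algebra Y.functionField L :=
    (IsLocalization.lift (M := nonZeroDivisors (Y.presheaf.stalk y)) (S := Y.functionField) hu).toAlgebra
  haveI : IsScalarTower (Y.presheaf.stalk y) Y.functionField L :=
    IsScalarTower.of_algebraMap_eq fun r => (IsLocalization.lift_eq hu r).symm
  haveI hpo : Algebra.IsPushout (Y.presheaf.stalk y) B Y.functionField L :=
    Algebra.isPushout_of_isLocalization (nonZeroDivisors (Y.presheaf.stalk y)) Y.functionField B L
  have sq := isPullback_SpecMap_of_isPushout _ _ _ _
    (CommRingCat.isPushout_of_isPushout (Y.presheaf.stalk y) B Y.functionField L)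
  have sq' := isPullback_of_mono_comp sq (Y.fromSpecStalk y)
  let r : Y.presheaf.stalk (genericPoint Y) ⟶ Y.residueField (genericPoint Y) := Y.residue (genericPoint Y)
  have hf : IsField (Y.presheaf.stalk (genericPoint Y)) := Field.toIsField Y.functionField
  have : IsIso r := by
    refine (ConcreteCategory.isIso_iff_bijective r).2 ⟨?_, Y.residue_surjective _⟩
    letI := hf.toField
    exact r.hom.injective
  have hj : Spec.map r ≫ Spec.map (CommRingCat.ofHom (algebraMap (Y.presheaf.stalk y) Y.functionField)) ≫
      Y.fromSpecStalk y = Y.fromSpecResidueField (genericPoint Y) :=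
    congrArg (Spec.map r ≫ ·) (Y.SpecMap_stalkSpecializes_fromSpecStalk ((genericPoint_spec Y).specializes trivial))
  refine ⟨Spec.map (CommRingCat.ofHom (algebraMap Y.functionField L)) ≫ inv (Spec.map r), ?_⟩
  refine sq'.of_iso (Iso.refl _) (Iso.refl _) (asIso (Spec.map r)).symm (Iso.refl _) ?_ ?_ ?_ ?_
  · rw [Iso.refl_hom, Iso.refl_hom, Category.comp_id, Category.id_comp]
  · rw [Iso.refl_hom, Iso.symm_hom, asIso_inv, Category.id_comp]
  · rw [Iso.refl_hom, Iso.refl_hom, Category.comp_id, Category.id_comp]
  · rw [Iso.refl_hom, Category.comp_id, Iso.symm_hom, asIso_inv, IsIso.eq_inv_comp]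
    exact hj

end Groth.Agent.Henz21.EtAcycComp
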