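import Groth.Agent.EtLim45.EtaleSys
import Groth.Agent.EtCore45.EtalePull
import Groth.Agent.EtLA91.ConstTorsion
import Mathlib.RingTheory.Spectrum.Prime.Topology
import Mathlib.RingTheory.Nilpotent.Basic
import Mathlib.AlgebraicGeometry.Morphisms.Preimmersion

/-!
A localization as the limit of the basic opens: cohomology and connectedness.
-/

set_option autoImplicit false
set_option backward.isDefEq.respectTransparency.types false
set_option linter.style.haveILetI false

universe u

open CategoryTheory CategoryTheory.Limits AlgebraicGeometry Opposite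
open Groth.Agent.EtLA91 Groth.Agent.EtLim45

namespace Groth.Agent.Henz21.EtAcycComp

variable {B : Type u} [CommRing B]

/-- The elements of a submonoid ordered by divisibility. -/
structure DivIdx (S : Submonoid B) : Type u where
  val : B
  mem : val ∈ S

variable {S : Submonoid B}

instance : Preorder (DivIdx S) where
  le a b := a.val ∣ b.val
  le_refl _ := dvd_rfl
  le_trans _ _ _ h h' := dvd_trans h h'

instance : Nonempty (DivIdx S) := ⟨⟨1, S.one_mem⟩⟩

instance : IsDirected (DivIdx S) (· ≤ ·) :=
  ⟨fun a b => ⟨⟨a.val * b.val, S.mul_mem a.mem b.mem⟩, dvd_mul_right _ _, dvd_mul_left _ _⟩⟩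

theorem isOpenImmersion_away (r : B) :
    IsOpenImmersion (Spec.map (CommRingCat.ofHom (algebraMap B (Localization.Away r)))) :=
  IsOpenImmersion.of_isLocalization r

/-- A basic open as an etale scheme over the spectrum. -/
noncomputable abbrev stageEt (r : B) : (Spec (CommRingCat.of B)).Etale :=
  haveI := isOpenImmersion_away r
  Scheme.Etale.mk (Spec.map (CommRingCat.ofHom (algebraMap B (Localization.Away r))))

theorem hom_ext_stageEt {V : (Spec (CommRingCat.of B)).Etale} {r : B} (p q : V ⟶ stageEt r) : p = q := by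
  have := isOpenImmersion_away r
  exact MorphismProperty.Over.Hom.ext ((cancel_mono
    (Spec.map (CommRingCat.ofHom (algebraMap B (Localization.Away r))))).1
      ((MorphismProperty.Over.w p).trans (MorphismProperty.Over.w q).symm))

/-- Restriction to a smaller basic open. -/
noncomputable def trAway {r t : B} (h : r ∣ t) : Localization.Away r →+* Localization.Away t :=
  IsLocalization.Away.lift r
    (isUnit_of_dvd_unit (map_dvd (algebraMap B (Localization.Away t)) h)
      (IsLocalization.Away.algebraMap_isUnit t))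

theorem trAway_comp {r t : B} (h : r ∣ t) :
    (trAway h).comp (algebraMap B (Localization.Away r)) = algebraMap B (Localization.Away t) :=
  IsLocalization.Away.lift_comp _ _

/-- The inverse system of basic opens. -/
noncomputable def locSys (S : Submonoid B) : (DivIdx S)ᵒᵖ ⥤ (Spec (CommRingCat.of B)).Etale where
  obj a := stageEt a.unop.val
  map {a b} g := MorphismProperty.Over.homMk (Spec.map (CommRingCat.ofHom (trAway (leOfHom g.unop))))
    (by
      change _ ≫ Spec.map _ = Spec.map _
      rw [← Spec.map_comp, ← CommRingCat.ofHom_comp, trAway_comp]) trivial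
  map_id _ := hom_ext_stageEt _ _
  map_comp _ _ := hom_ext_stageEt _ _

variable (S) (L : Type u) [CommRing L] [Algebra B L] [IsLocalization S L]

theorem isUnit_map_idx (a : DivIdx S) : IsUnit (algebraMap B L a.val) :=
  IsLocalization.map_units L (⟨a.val, a.mem⟩ : S)

/-- The projection to a basic open. -/
noncomputable def locPr (a : DivIdx S) : Spec (CommRingCat.of L) ⟶ (stageEt a.val).left :=
  Spec.map (CommRingCat.ofHom (IsLocalization.Away.lift a.val (isUnit_map_idx S L a)))

theorem locPr_hom (a : DivIdx S) :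
    locPr S L a ≫ (stageEt a.val).hom = Spec.map (CommRingCat.ofHom (algebraMap B L)) := by
  change Spec.map _ ≫ Spec.map _ = _
  rw [← Spec.map_comp, ← CommRingCat.ofHom_comp, IsLocalization.Away.lift_comp]

/-- The spectrum of the localization as a cone. -/
noncomputable def locCone : Cone (Und (locSys S)) where
  pt := Spec (CommRingCat.of L)
  π :=
    { app := fun a => locPr S L a.unop
      naturality := fun a b g => by
        have := isOpenImmersion_away b.unop.val
        refine (Category.id_comp _).trans ((cancel_mono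
          (Spec.map (CommRingCat.ofHom (algebraMap B (Localization.Away b.unop.val))))).1 ?_)
        refine (locPr_hom S L b.unop).trans ?_
        refine Eq.trans ?_ (Category.assoc _ _ _).symm
        refine Eq.trans ?_ (congrArg (locPr S L a.unop ≫ ·) (MorphismProperty.Over.w ((locSys S).map g)).symm)
        exact (locPr_hom S L a.unop).symm }

theorem locCone_w (j : DivIdx S) :
    pr (locCone S L) j ≫ str (locSys S) j = Spec.map (CommRingCat.ofHom (algebraMap B L)) :=
  locPr_hom S L j

theorem appTop_unit {T : Scheme.{u}} {r : B} (p : T ⟶ (stageEt r).left) :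
    IsUnit (((Scheme.ΓSpecIso (CommRingCat.of B)).inv ≫ (p ≫ (stageEt r).hom).appTop) r) := by
  have e : (Scheme.ΓSpecIso (CommRingCat.of B)).inv ≫ (p ≫ (stageEt r).hom).appTop =
      CommRingCat.ofHom (algebraMap B (Localization.Away r)) ≫
        (Scheme.ΓSpecIso (CommRingCat.of (Localization.Away r))).inv ≫ p.appTop := by
    rw [Scheme.Hom.comp_appTop, ← Category.assoc, ← Category.assoc, Scheme.ΓSpecIso_inv_naturality]
    rfl
  rw [e, CommRingCat.comp_apply, CommRingCat.ofHom_apply]
  exact (IsLocalization.Away.algebraMap_isUnit r).map _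

theorem toSpecΓ_SpecMap_appTop {T : Scheme.{u}} (h : T ⟶ Spec (CommRingCat.of B)) :
    T.toSpecΓ ≫ Spec.map ((Scheme.ΓSpecIso (CommRingCat.of B)).inv ≫ h.appTop) = h := by
  rw [Spec.map_comp, ← Category.assoc, ← Scheme.toSpecΓ_naturality, Category.assoc,
    toSpecΓ_SpecMap_ΓSpecIso_inv, Category.comp_id]

/-- The spectrum of a localization is the limit of the basic opens. -/
theorem nonempty_isLimit_locCone : Nonempty (IsLimit (locCone S L)) := by
  let b := Spec.map (CommRingCat.ofHom (algebraMap B L))
  have : IsPreimmersion b := IsPreimmersion.of_isLocalization S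
  let j₀ : DivIdx S := Classical.arbitrary _
  have hh : ∀ (s : Cone (Und (locSys S))) (a : (DivIdx S)ᵒᵖ),
      s.π.app a ≫ str (locSys S) a.unop = s.π.app (op j₀) ≫ str (locSys S) j₀ := by
    intro s a
    obtain ⟨k, hak, hjk⟩ : ∃ k : DivIdx S, a.unop ≤ k ∧ j₀ ≤ k :=
      ⟨⟨a.unop.val * j₀.val, S.mul_mem a.unop.mem j₀.mem⟩, dvd_mul_right _ _, dvd_mul_left _ _⟩
    have e : ∀ {i : DivIdx S} (h : i ≤ k),
        s.π.app (op i) ≫ str (locSys S) i = s.π.app (op k) ≫ str (locSys S) k := fun {i} h =>
      (congrArg (· ≫ str (locSys S) i) (s.w (homOfLE h).op).symm).trans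
        ((Category.assoc _ _ _).trans (congrArg (s.π.app (op k) ≫ ·) (tr_str (locSys S) h)))
    exact (e hak).trans (e hjk).symm
  have hu : ∀ (s : Cone (Und (locSys S))) (r : S),
      IsUnit (((Scheme.ΓSpecIso (CommRingCat.of B)).inv ≫
        (s.π.app (op j₀) ≫ str (locSys S) j₀).appTop).hom r) := fun s r => by
    rw [← hh s (op ⟨r.1, r.2⟩)]
    exact appTop_unit _
  let l : ∀ s : Cone (Und (locSys S)), s.pt ⟶ Spec (CommRingCat.of L) := fun s =>
    s.pt.toSpecΓ ≫ Spec.map (CommRingCat.ofHom (IsLocalization.lift (hu s)))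
  have hl : ∀ s, l s ≫ b = s.π.app (op j₀) ≫ str (locSys S) j₀ := fun s => by
    refine Eq.trans ?_ (toSpecΓ_SpecMap_appTop (s.π.app (op j₀) ≫ str (locSys S) j₀))
    refine (Category.assoc _ _ _).trans (congrArg (s.pt.toSpecΓ ≫ ·) ?_)
    rw [← Spec.map_comp]
    exact congrArg Spec.map (CommRingCat.hom_ext (IsLocalization.lift_comp (hu s)))
  refine ⟨{ lift := l, fac := fun s a => ?_, uniq := fun s m hm => ?_ }⟩
  · have := isOpenImmersion_away a.unop.val
    refine (cancel_mono (Spec.map (CommRingCat.ofHom (algebraMap B (Localization.Away a.unop.val))))).1 ?_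
    exact (Category.assoc _ _ _).trans ((congrArg (l s ≫ ·) (locPr_hom S L a.unop)).trans
      ((hl s).trans (hh s a).symm))
  · refine (cancel_mono b).1 (Eq.trans ?_ (hl s).symm)
    rw [← hm (op j₀)]
    exact (congrArg (m ≫ ·) (locPr_hom S L j₀).symm).trans (Category.assoc _ _ _).symm

/-- Vanishing on all basic opens passes to the localization. -/
theorem subsingleton_H_loc (G : EtCoh.Ab (Spec (CommRingCat.of B))) (q : ℕ)
    (h : ∀ r ∈ S, Subsingleton (EtCoh.H (Spec (CommRingCat.of (Localization.Away r)))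
      ((EtCoh.pull (Spec.map (CommRingCat.ofHom (algebraMap B (Localization.Away r))))).obj G) q)) :
    Subsingleton (EtCoh.H (Spec (CommRingCat.of L))
      ((EtCoh.pull (Spec.map (CommRingCat.ofHom (algebraMap B L)))).obj G) q) := by
  obtain ⟨hc⟩ := nonempty_isLimit_locCone S L
  haveI hdir : IsDirected (DivIdx S) (· ≤ ·) :=
    ⟨fun a b => ⟨⟨a.val * b.val, S.mul_mem a.mem b.mem⟩, dvd_mul_right _ _, dvd_mul_left _ _⟩⟩
  haveI : ∀ a, IsAffine ((Und (locSys S)).obj a) := fun a =>
    inferInstanceAs (IsAffine (Spec (CommRingCat.of (Localization.Away a.unop.val))))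
  haveI : ∀ a, CompactSpace ↥((Und (locSys S)).obj a) := fun a => inferInstance
  haveI : ∀ a, QuasiSeparatedSpace ↥((Und (locSys S)).obj a) := fun a => inferInstance
  haveI : ∀ (a a' : (DivIdx S)ᵒᵖ) (g : a ⟶ a'), IsAffineHom ((Und (locSys S)).map g) := fun a a' g => inferInstance
  haveI : ∀ ⦃a a' : (DivIdx S)ᵒᵖ⦄ (g : a ⟶ a'), PreservesFiniteLimits (EtCoh.pull ((Und (locSys S)).map g)) :=
    fun _ _ g => Unr55.EtSh.preservesFiniteLimits_pull _
  haveI : ∀ a, PreservesFiniteLimits (EtCoh.pull ((locCone S L).π.app a)) := fun a =>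
    Unr55.EtSh.preservesFiniteLimits_pull _
  have hsurj := (H_limit hc q (etSys (locSys S) G) _
    (etMap (locSys S) (locCone S L) _ (locCone_w S L) G)
    (stalkLim_etSys (locSys S) (locCone S L) _ (locCone_w S L) G)).1
  have hz : ∀ ξ : EtCoh.H (locCone S L).pt
      ((EtCoh.pull (Spec.map (CommRingCat.ofHom (algebraMap B L)))).obj G) q, ξ = 0 := fun ξ => by
    obtain ⟨j, x, rfl⟩ := hsurj ξ
    haveI := isOpenImmersion_away j.val
    let w : St (Und (locSys S)) j ⟶ Spec (CommRingCat.of B) :=
      Spec.map (CommRingCat.ofHom (algebraMap B (Localization.Away j.val)))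
    haveI : Etale w := ((locSys S).obj (op j)).prop
    obtain ⟨e⟩ := etSys_F_iso (locSys S) G j
    let i : (etSys (locSys S) G).F j ≅ (EtCoh.pull w).obj G := e ≪≫ ((EtCore45.pullRestrIso w).app G).symm
    let k : EtCoh.H (St (Und (locSys S)) j) ((etSys (locSys S) G).F j) q ≃+
        EtCoh.H (St (Und (locSys S)) j) ((EtCoh.pull w).obj G) q :=
      ((EtCoh.HF _ q).mapIso i).addCommGroupIsoToAddEquiv
    haveI : Subsingleton (EtCoh.H (St (Und (locSys S)) j) ((EtCoh.pull w).obj G) q) := h j.val j.mem
    rw [show x = 0 from k.injective (Subsingleton.elim _ _)]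
    exact map_zero _
  exact ⟨fun a b => (hz a).trans (hz b).symm⟩

/-- Vanishing for constant coefficients passes to the localization. -/
theorem subsingleton_H_loc_cst (M : AddCommGrpCat.{u + 1}) (q : ℕ)
    (h : ∀ r ∈ S, Subsingleton (EtCoh.H (Spec (CommRingCat.of (Localization.Away r))) ((Cst _).obj M) q)) :
    Subsingleton (EtCoh.H (Spec (CommRingCat.of L)) ((Cst _).obj M) q) := by
  let b := Spec.map (CommRingCat.ofHom (algebraMap B L))
  have h' := subsingleton_H_loc S L ((Cst _).obj M) q fun r hr => by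
    let w := Spec.map (CommRingCat.ofHom (algebraMap B (Localization.Away r)))
    let e : EtCoh.H _ ((EtCoh.pull w).obj ((Cst _).obj M)) q ≃+ EtCoh.H _ ((Cst _).obj M) q :=
      ((EtCoh.HF _ q).mapIso ((EtCore.pullConstIso w).app M)).addCommGroupIsoToAddEquiv
    have := h r hr
    exact e.toEquiv.subsingleton
  let e : EtCoh.H _ ((EtCoh.pull b).obj ((Cst _).obj M)) q ≃+ EtCoh.H _ ((Cst _).obj M) q :=
    ((EtCoh.HF _ q).mapIso ((EtCore.pullConstIso b).app M)).addCommGroupIsoToAddEquiv
  exact e.symm.toEquiv.subsingleton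

theorem idem_trivial_of_preconnected {R : Type u} [CommRing R] [h : PreconnectedSpace (PrimeSpectrum R)] {e : R}
    (he : IsIdempotentElem e) : e = 0 ∨ e = 1 := by
  rcases preconnectedSpace_iff_clopen.1 h _ (PrimeSpectrum.isClopen_iff.2 ⟨e, he, rfl⟩) with h1 | h1
  · exact Or.inl ((PrimeSpectrum.basicOpen_eq_bot_iff e).1 (TopologicalSpace.Opens.ext h1)
      |>.eq_zero_of_isIdempotentElem he)
  · refine Or.inr (sub_eq_zero.1 (((PrimeSpectrum.basicOpen_eq_bot_iff (1 - e)).1 ?_)
      |>.eq_zero_of_isIdempotentElem he.one_sub)).symm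
    refine TopologicalSpace.Opens.ext (Set.eq_empty_iff_forall_notMem.2 fun p hp => hp ?_)
    have hpe : e ∉ p.asIdeal := Set.eq_univ_iff_forall.1 h1 p
    exact (p.isPrime.mem_or_mem (show e * (1 - e) ∈ p.asIdeal by
      rw [mul_sub, mul_one, he.eq, sub_self]; exact p.asIdeal.zero_mem)).resolve_left hpe

/-- Connectedness of all basic opens passes to the localization. -/
theorem preconnected_loc (h : ∀ r ∈ S, PreconnectedSpace (Spec (CommRingCat.of (Localization.Away r)))) :
    PreconnectedSpace (Spec (CommRingCat.of L)) := by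
  suffices hL : ∀ e : L, IsIdempotentElem e → e = 0 ∨ e = 1 by
    change PreconnectedSpace (PrimeSpectrum L)
    refine preconnectedSpace_iff_clopen.2 fun U hU => ?_
    obtain ⟨e, he, rfl⟩ := PrimeSpectrum.exists_idempotent_basicOpen_eq_of_isClopen hU
    rcases hL e he with rfl | rfl <;> simp
  intro e he
  obtain ⟨b, s, rfl⟩ := IsLocalization.exists_mk'_eq S e
  rw [IsIdempotentElem, ← IsLocalization.mk'_mul, IsLocalization.mk'_eq_iff_eq, IsLocalization.eq_iff_exists S] at he
  obtain ⟨w, hw⟩ := he
  let t : B := (s : B) * w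
  have ht : t ∈ S := S.mul_mem s.2 w.2
  have hs : IsUnit (algebraMap B (Localization.Away t) s) :=
    isUnit_of_dvd_unit (map_dvd _ (dvd_mul_right _ _)) (IsLocalization.Away.algebraMap_isUnit t)
  have hwu : IsUnit (algebraMap B (Localization.Away t) w) :=
    isUnit_of_dvd_unit (map_dvd _ (dvd_mul_left _ _)) (IsLocalization.Away.algebraMap_isUnit t)
  obtain ⟨su, hsu⟩ := hs
  let e' : Localization.Away t := algebraMap B _ b * ↑su⁻¹
  have he' : IsIdempotentElem e' := by
    have h2 := congrArg (algebraMap B (Localization.Away t)) hw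
    simp only [map_mul, Submonoid.coe_mul] at h2
    have h3 := hwu.mul_left_cancel h2
    rw [← hsu] at h3
    change e' * e' = e'
    linear_combination (↑su⁻¹ * ↑su⁻¹ * ↑su⁻¹) * h3 -
      (algebraMap B (Localization.Away t) b * algebraMap B _ b * ↑su⁻¹ * ↑su⁻¹) * su.inv_mul +
      (algebraMap B (Localization.Away t) b * ↑su⁻¹ * (↑su⁻¹ * ↑su + 1)) * su.inv_mul
  let p : Localization.Away t →+* L := IsLocalization.Away.lift t (isUnit_map_idx S L ⟨t, ht⟩)
  have hp : p e' = IsLocalization.mk' L b s := by
    refine IsLocalization.eq_mk'_iff_mul_eq.2 ?_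
    have h1 : algebraMap B L s = p su :=
      ((congrArg p hsu).trans (IsLocalization.Away.lift_eq t (isUnit_map_idx S L ⟨t, ht⟩) s)).symm
    rw [h1, ← map_mul, mul_assoc, Units.inv_mul, mul_one]
    exact IsLocalization.Away.lift_eq t (isUnit_map_idx S L ⟨t, ht⟩) b
  have := h t ht
  have : PreconnectedSpace (PrimeSpectrum (Localization.Away t)) := this
  rcases idem_trivial_of_preconnected he' with h1 | h1
  · exact Or.inl (by rw [← hp, h1, map_zero])
  · exact Or.inr (by rw [← hp, h1, map_one])

/-- Nonemptiness of all basic opens passes to the localization. -/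
theorem nonempty_loc (h : ∀ r ∈ S, Nonempty (Spec (CommRingCat.of (Localization.Away r)))) :
    Nonempty (Spec (CommRingCat.of L)) := by
  by_contra hne
  have : IsEmpty (PrimeSpectrum L) := not_nonempty_iff.1 hne
  have : Subsingleton L := PrimeSpectrum.isEmpty_iff_subsingleton.1 this
  have h0 : (0 : B) ∈ S := by
    obtain ⟨c, hc⟩ := (IsLocalization.eq_iff_exists S L).1 (Subsingleton.elim (algebraMap B L 0) (algebraMap B L 1))
    rw [mul_zero, mul_one] at hc
    exact hc ▸ c.2
  have : Subsingleton (Localization.Away (0 : B)) :=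
    IsLocalization.subsingleton (S := Localization.Away (0 : B)) (M := Submonoid.powers (0 : B))
      (Submonoid.mem_powers 0)
  exact (not_nonempty_iff.2 (PrimeSpectrum.isEmpty_iff_subsingleton.2 this)) (h 0 h0)

end Groth.Agent.Henz21.EtAcycComp
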