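import Groth.Agent.Henz21.EtAcyc.ConnPsi
import Groth.Agent.Henz21.EtAcyc.LocLimit
import Groth.Agent.Henz21.EtAcyc.GenericFibre
import Groth.Agent.EtLim45.StalkRpush
import Groth.Agent.EtCore45.StalkTriv
import Groth.Agent.EtCore45.Stalks
import Groth.Agent.Cons51.StalkExt
import Groth.Prelude.Def_Pi1

/-!
Constant torsion coefficients along the inclusion of the generic fibre of a locally acyclic morphism
to a normal integral scheme with separably closed function field.
-/

set_option autoImplicit false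
set_option backward.isDefEq.respectTransparency.types false
set_option linter.style.haveILetI false

universe u

open CategoryTheory CategoryTheory.Limits AlgebraicGeometry Opposite
open Groth.Agent.EtLA91 Groth.Agent.LocConst45 Groth.Agent.Unr55.EtSh

namespace Groth.Agent.Henz21.EtAcycComp

variable {X Y : Scheme.{u}}

/-- At every point some strict localization is acyclic over the local ring downstairs. -/
def StalkAcyclic (f : X ⟶ Y) (L : Set ℕ) (n : ℕ) : Prop :=
  ∀ x : X, ∃ (R : Type u) (_ : CommRing R) (_ : IsLocalRing R) (_ : Algebra (X.presheaf.stalk x) R)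
    (_ : IsLocalHom (algebraMap (X.presheaf.stalk x) R)) (_ : Hensel.IsStrictHenselization (X.presheaf.stalk x) R),
    EtAcyc.IsAcyclicN
      (Spec.map (CommRingCat.ofHom ((algebraMap (X.presheaf.stalk x) R).comp (f.stalkMap x).hom))) L n

theorem specOf_closedPoint (x : X) (R : Type u) [CommRing R] [IsLocalRing R] [Algebra (X.presheaf.stalk x) R]
    [IsLocalHom (algebraMap (X.presheaf.stalk x) R)] :
    Hens2.specOf X x R (IsLocalRing.closedPoint R) = x := by
  rw [Hens2.specOf, Scheme.Hom.comp_apply]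
  exact (congrArg (X.fromSpecStalk x)
    (IsLocalRing.comap_closedPoint (algebraMap (X.presheaf.stalk x) R))).trans X.fromSpecStalk_closedPoint

theorem geomPt_default (x : X) (R : Type u) [CommRing R] [IsLocalRing R] [Algebra (X.presheaf.stalk x) R]
    [IsLocalHom (algebraMap (X.presheaf.stalk x) R)] :
    Hens2.geomPt X x R default = x := by
  rw [Hens2.geomPt, Scheme.Hom.comp_apply]
  refine (congrArg (Hens2.specOf X x R) ?_).trans (specOf_closedPoint x R)
  rw [Subsingleton.elim (default : Spec (CommRingCat.of (IsLocalRing.ResidueField R)))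
    (IsLocalRing.closedPoint (IsLocalRing.ResidueField R))]
  exact IsLocalRing.comap_closedPoint (IsLocalRing.residue R)

variable [IsIntegral Y]

/-- The inclusion of the generic fibre. -/
noncomputable abbrev genPr (f : X ⟶ Y) : pullback f (Y.fromSpecResidueField (genericPoint Y)) ⟶ X :=
  pullback.fst f (Y.fromSpecResidueField (genericPoint Y))

theorem quasiCompact_genPr (f : X ⟶ Y) : QuasiCompact (genPr f) :=
  MorphismProperty.pullback_fst (P := @QuasiCompact) _ _ (quasiCompact_fromSpecResidueField _)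

theorem quasiSeparated_genPr (f : X ⟶ Y) : QuasiSeparated (genPr f) :=
  MorphismProperty.pullback_fst (P := @QuasiSeparated) _ _ (quasiSeparated_fromSpecResidueField _)

theorem isSepClosed_fractionRing_stalk [IsSepClosed (Y.residueField (genericPoint Y))] (y : Y) :
    IsSepClosed (FractionRing (Y.presheaf.stalk y)) := by
  let r : Y.presheaf.stalk (genericPoint Y) ⟶ Y.residueField (genericPoint Y) := Y.residue (genericPoint Y)
  have hf : IsField (Y.presheaf.stalk (genericPoint Y)) := Field.toIsField Y.functionField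
  have hb : Function.Bijective r := by
    refine ⟨?_, Y.residue_surjective _⟩
    letI := hf.toField
    exact r.hom.injective
  have : IsSepClosed Y.functionField :=
    LimTop61.isSepClosed_of_ringEquiv (RingEquiv.ofBijective r.hom hb).symm
  exact LimTop61.isSepClosed_of_ringEquiv
    (FractionRing.algEquiv (Y.presheaf.stalk y) Y.functionField).symm.toRingEquiv

/-- Cohomology and connectedness of the generic fibre of a strict localization. -/
theorem stalk_facts (hY : Pi1.IsNormalScheme Y) [IsSepClosed (Y.residueField (genericPoint Y))] (f : X ⟶ Y)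
    {L : Set ℕ} {n : ℕ} (x : X) (R : Type u) [CommRing R] [IsLocalRing R] [Algebra (X.presheaf.stalk x) R]
    (hac : EtAcyc.IsAcyclicN
      (Spec.map (CommRingCat.ofHom ((algebraMap (X.presheaf.stalk x) R).comp (f.stalkMap x).hom))) L n)
    (M : AddCommGrpCat.{u + 1}) (hM : ∀ m : M, ∃ k : ℕ, EtAcyc.PrimesIn L k ∧ k • m = 0) :
    (∀ q : ℕ, 1 ≤ q → q ≤ n →
      Subsingleton (EtCoh.H (pullback (genPr f) (Hens2.specOf X x R)) ((Cst _).obj M) q)) ∧
    Function.Surjective (psi (pullback (genPr f) (Hens2.specOf X x R)) M) ∧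
    (Nontrivial M → Nonempty ↥(pullback (genPr f) (Hens2.specOf X x R))) := by
  let y := f x
  let A : Type u := Y.presheaf.stalk y
  haveI : IsDomain (Y.presheaf.stalk y) := (hY y).1
  haveI : IsIntegrallyClosed (Y.presheaf.stalk y) := (hY y).2
  haveI := isSepClosed_fractionRing_stalk y
  let φ : Y.presheaf.stalk y →+* R := (algebraMap (X.presheaf.stalk x) R).comp (f.stalkMap x).hom
  letI : Algebra (Y.presheaf.stalk y) R := φ.toAlgebra
  let S : Submonoid R := (nonZeroDivisors (Y.presheaf.stalk y)).map φ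
  let Lc := Localization S
  obtain ⟨v, hv⟩ := exists_isPullback_generic y R φ Lc
  let sp := Hens2.specOf X x R
  have hsp : sp ≫ f = Spec.map (CommRingCat.ofHom φ) ≫ Y.fromSpecStalk y := by
    change (Spec.map _ ≫ X.fromSpecStalk x) ≫ f = Spec.map _ ≫ _
    rw [Category.assoc, ← Scheme.SpecMap_stalkMap_fromSpecStalk, ← Category.assoc, ← Spec.map_comp]
    rfl
  have sq : IsPullback (pullback.fst (genPr f) sp ≫ pullback.snd f (Y.fromSpecResidueField (genericPoint Y)))
      (pullback.snd (genPr f) sp) (Y.fromSpecResidueField (genericPoint Y)) (sp ≫ f) :=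
    (IsPullback.of_hasPullback (genPr f) sp).paste_horiz
      (IsPullback.of_hasPullback f (Y.fromSpecResidueField (genericPoint Y))).flip
  rw [hsp] at sq
  let e : pullback (genPr f) sp ≅ Spec (CommRingCat.of Lc) := sq.isoIsPullback _ _ hv.flip
  have := Unr55.EtSh.preservesFiniteLimits_pull e.hom
  have hstage : ∀ r ∈ S, (∀ q : ℕ, 1 ≤ q → q ≤ n →
      Subsingleton (EtCoh.H (Spec (CommRingCat.of (Localization.Away r))) ((Cst _).obj M) q)) ∧
      Function.Surjective (psi (Spec (CommRingCat.of (Localization.Away r))) M) ∧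
      (Nontrivial M → Nonempty (Spec (CommRingCat.of (Localization.Away r)))) := by
    rintro r ⟨a, ha, rfl⟩
    exact stage_facts (A := Y.presheaf.stalk y) (B := R) hac M hM a (nonZeroDivisors.ne_zero ha)
      (Localization.Away (φ a))
  refine ⟨fun q hq hqn => ?_, ?_, fun hnt => ?_⟩
  · haveI := subsingleton_H_loc_cst S Lc M q fun r hr => (hstage r hr).1 q hq hqn
    haveI : Subsingleton (EtCoh.H (pullback (genPr f) sp) ((EtCoh.pull e.hom).obj ((Cst _).obj M)) q) :=
      (EtCore45.Hpull_bijective_uh e.hom ((Cst _).obj M) q).2.subsingleton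
    let i : EtCoh.H (pullback (genPr f) sp) ((EtCoh.pull e.hom).obj ((Cst _).obj M)) q ≃+
        EtCoh.H (pullback (genPr f) sp) ((Cst _).obj M) q :=
      ((EtCoh.HF _ q).mapIso ((EtCore.pullConstIso e.hom).app M)).addCommGroupIsoToAddEquiv
    exact i.symm.toEquiv.subsingleton
  · refine psi_surjective_of_preconnected M fun hnt => ?_
    haveI := hnt
    haveI : PreconnectedSpace (Spec (CommRingCat.of Lc)) :=
      preconnected_loc S Lc fun r hr => preconnected_of_psi_surjective M (hstage r hr).2.1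
    exact e.inv.homeomorph.surjective.denseRange.preconnectedSpace e.inv.continuous
  · exact (nonempty_loc S Lc fun r hr => (hstage r hr).2.2 hnt).map e.inv

theorem isZero_Rpush_cst (hY : Pi1.IsNormalScheme Y) [IsSepClosed (Y.residueField (genericPoint Y))]
    (f : X ⟶ Y) {L : Set ℕ} {n : ℕ} (hac : StalkAcyclic f L n) (M : AddCommGrpCat.{u + 1})
    (hM : ∀ m : M, ∃ k : ℕ, EtAcyc.PrimesIn L k ∧ k • m = 0) (q : ℕ) (hq : 1 ≤ q) (hqn : q ≤ n) :
    IsZero ((EtCoh.Rpush (genPr f) q).obj ((EtCoh.pull (genPr f)).obj ((Cst X).obj M))) := by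
  have := quasiCompact_genPr f
  have := quasiSeparated_genPr f
  let G := (EtCoh.Rpush (genPr f) q).obj ((EtCoh.pull (genPr f)).obj ((Cst X).obj M))
  refine EtCore45.isZero_of_stalks G fun K _ _ η => ?_
  obtain ⟨R, _, _, _, _, hR, hacR⟩ := hac (η default)
  haveI : IsSepClosed (IsLocalRing.ResidueField R) := hR.isSepClosure.sep_closed
  obtain ⟨e⟩ := EtLim45.nonempty_stalk_Rpush_sh (genPr f) (η default) R q
  have h0 := (stalk_facts hY f (η default) R hacR M hM).1 q hq hqn
  let p := pullback.fst (genPr f) (Hens2.specOf X (η default) R)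
  let i : (EtCoh.stalk (Hens2.geomPt X (η default) R)).obj G ≅
      (EtCoh.HF _ q).obj ((Cst (pullback (genPr f) (Hens2.specOf X (η default) R))).obj M) :=
    e.app ((EtCoh.pull (genPr f)).obj ((Cst X).obj M)) ≪≫
      (EtCoh.HF _ q).mapIso ((EtCoh.pull p).mapIso ((EtCore.pullConstIso (genPr f)).app M) ≪≫
        (EtCore.pullConstIso p).app M)
  have hs : Subsingleton ((EtCoh.stalk (Hens2.geomPt X (η default) R)).obj G) :=
    haveI : Subsingleton ((EtCoh.HF _ q).obj
      ((Cst (pullback (genPr f) (Hens2.specOf X (η default) R))).obj M)) := h0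
    i.addCommGroupIsoToAddEquiv.toEquiv.subsingleton
  have h1 : Function.Bijective ((EtCoh.stalk (Hens2.geomPt X (η default) R)).map (0 : G ⟶ G)) :=
    ⟨fun a b _ => hs.elim a b, fun b => ⟨b, hs.elim _ _⟩⟩
  have h2 := Cons51.bijective_stalk_of_eq (0 : G ⟶ G) _ η (geomPt_default (η default) R) h1
  rw [Functor.map_zero] at h2
  have : Subsingleton ((EtCoh.stalk η).obj G) := ⟨fun a b => h2.1 rfl⟩
  exact AddCommGrpCat.isZero_of_subsingleton _

/-- The unit followed by the identification of inverse images of constant sheaves. -/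
noncomputable def unitCst (f : X ⟶ Y) :
    Cst X ⟶ Cst (pullback f (Y.fromSpecResidueField (genericPoint Y))) ⋙ EtCoh.push (genPr f) :=
  Functor.whiskerLeft (Cst X) (EtCoh.pullPushAdj (genPr f)).unit ≫
    Functor.whiskerRight (EtCore.pullConstIso (genPr f)).hom (EtCoh.push (genPr f))

theorem unitCst_app (f : X ⟶ Y) (M : AddCommGrpCat.{u + 1}) :
    (unitCst f).app M = (EtCoh.pullPushAdj (genPr f)).unit.app ((Cst X).obj M) ≫
      (EtCoh.push (genPr f)).map ((EtCore.pullConstIso (genPr f)).hom.app M) := rfl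

/-- The stalk of a constant sheaf. -/
noncomputable def kappa {Ω : Type u} [Field Ω] [IsSepClosed Ω] (η : Spec (CommRingCat.of Ω) ⟶ X)
    (M : AddCommGrpCat.{u + 1}) : M →+ ((EtCoh.stalk η).obj ((Cst X).obj M) : AddCommGrpCat.{u + 1}) :=
  (germ η ((Cst X).obj M) (U := EtCoh.top X) (mkPt _ η (Category.comp_id η))).comp (constσ M (EtCoh.top X))

omit [IsIntegral Y] in
theorem kappa_bijective {Ω : Type u} [Field Ω] [IsSepClosed Ω] (η : Spec (CommRingCat.of Ω) ⟶ X)
    (M : AddCommGrpCat.{u + 1}) : Function.Bijective (kappa η M) :=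
  EtCore45.triv_germ_bijective (isTriv_const M (EtCoh.top X)) _

omit [IsIntegral Y] in
theorem kappa_natural {Ω : Type u} [Field Ω] [IsSepClosed Ω] (η : Spec (CommRingCat.of Ω) ⟶ X)
    {M N : AddCommGrpCat.{u + 1}} (c : M ⟶ N) (m : M) :
    (EtCoh.stalk η).map ((Cst X).map c) (kappa η M m) = kappa η N (c m) := by
  refine (stalk_map_germ _ _ _ _).trans ?_
  exact congrArg (germ η _ _) (constσ_natural c (EtCoh.top X) m)

theorem isIso_unit_cst_generic (hY : Pi1.IsNormalScheme Y) [IsSepClosed (Y.residueField (genericPoint Y))]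
    (f : X ⟶ Y) {L : Set ℕ} {n : ℕ} (hac : StalkAcyclic f L n) (M : AddCommGrpCat.{u + 1})
    (hM : ∀ m : M, ∃ k : ℕ, EtAcyc.PrimesIn L k ∧ k • m = 0) :
    IsIso ((EtCoh.pullPushAdj (genPr f)).unit.app ((Cst X).obj M)) := by
  have := quasiCompact_genPr f
  have := quasiSeparated_genPr f
  suffices IsIso ((unitCst f).app M) from by
    rw [unitCst_app] at this
    exact IsIso.of_isIso_comp_right _ ((EtCoh.push (genPr f)).map ((EtCore.pullConstIso (genPr f)).hom.app M))
  refine Unr55.EtSh.isIso_of_stalks _ fun K _ _ η => ?_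
  obtain ⟨R, _, _, _, _, hR, hacR⟩ := hac (η default)
  haveI : IsSepClosed (IsLocalRing.ResidueField R) := hR.isSepClosure.sep_closed
  obtain ⟨e⟩ := EtLim45.nonempty_stalk_Rpush_sh (genPr f) (η default) R 0
  let ξ := Hens2.geomPt X (η default) R
  refine Cons51.bijective_stalk_of_eq _ ξ η (geomPt_default (η default) R) ?_
  let T := pullback (genPr f) (Hens2.specOf X (η default) R)
  let p := pullback.fst (genPr f) (Hens2.specOf X (η default) R)
  let E : (Cst _ ⋙ EtCoh.push (genPr f)) ⋙ EtCoh.stalk ξ ≅ hCst T 0 :=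
    Functor.associator _ _ _ ≪≫
    Functor.isoWhiskerLeft (Cst _)
      (Functor.isoWhiskerRight (EtCoh.push (genPr f)).rightDerivedZeroIsoSelf.symm (EtCoh.stalk ξ) ≪≫ e) ≪≫
      (Functor.associator _ _ _).symm ≪≫
      Functor.isoWhiskerRight (EtCore.pullConstIso p) (EtCoh.HF T 0)
  let u := Functor.whiskerRight (unitCst f) (EtCoh.stalk ξ) ≫ E.hom
  suffices hu : Function.Bijective (u.app M) from by
    change Function.Bijective (⇑(E.hom.app M) ∘ ⇑((EtCoh.stalk ξ).map ((unitCst f).app M))) at hu
    exact ((ConcreteCategory.bijective_of_isIso (E.hom.app M)).of_comp_iff' _).1 hu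
  have hfacts := fun (N : AddCommGrpCat.{u + 1}) (hN : ∀ m : N, ∃ k : ℕ, EtAcyc.PrimesIn L k ∧ k • m = 0) =>
    stalk_facts hY f (η default) R hacR N hN
  have hinj : ∀ (N : AddCommGrpCat.{u + 1}), (∀ m : N, ∃ k : ℕ, EtAcyc.PrimesIn L k ∧ k • m = 0) →
      Function.Injective fun m : N => u.app N (kappa ξ N m) := by
    intro N hN
    refine (injective_iff_map_eq_zero ((u.app N).hom.comp (kappa ξ N))).2 fun m hm => ?_
    by_contra hne
    obtain ⟨z⟩ := (hfacts N hN).2.2 ⟨⟨m, 0, hne⟩⟩
    have hm2 : (EtCoh.stalk ξ).map ((unitCst f).app N) (kappa ξ N m) = 0 :=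
      (injective_iff_map_eq_zero _).1 (ConcreteCategory.bijective_of_isIso (E.hom.app N)).1 _ hm
    erw [stalk_map_germ] at hm2
    obtain ⟨V, g, t', -, hV⟩ := (germ_eq_zero_iff ξ _ _ _).1 hm2
    have e1 := EtCore45.MV.app_map ((unitCst f).app N) g (constσ N (EtCoh.top X) m)
    rw [constσ_map] at e1
    have hne' : Nonempty ((EtCoh.bc (genPr f)).obj V).left := by
      have : Etale V.hom := V.prop
      let w := Hens2.specOf X (η default) R (pullback.snd (genPr f) (Hens2.specOf X (η default) R) z)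
      have hw : w ⤳ η default := by
        have h1 : w ∈ Set.range (X.fromSpecStalk (η default)) := ⟨_, (Scheme.Hom.comp_apply _ _ _).symm⟩
        rw [Scheme.range_fromSpecStalk] at h1
        exact h1
      have hx : η default ∈ Set.range V.hom := by
        refine ⟨hom ξ t' default, ?_⟩
        rw [← Scheme.Hom.comp_apply, show hom ξ t' ≫ V.hom = ξ from Over.w t']
        exact geomPt_default (η default) R
      obtain ⟨v, hv⟩ := hw.mem_open V.hom.isOpenMap.isOpen_range hx
      obtain ⟨a, -, -⟩ := Scheme.Pullback.exists_preimage_pullback (f := V.hom) (g := genPr f) v (p z) (by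
        rw [hv]
        change Hens2.specOf X (η default) R _ = genPr f (p z)
        rw [← Scheme.Hom.comp_apply, ← Scheme.Hom.comp_apply, pullback.condition])
      exact ⟨a⟩
    refine hne (EtCore45.constσ_injective N ((EtCoh.bc (genPr f)).obj V) ?_)
    rw [map_zero, ← EtCore45.unit_constσ (genPr f) N V m]
    exact e1.trans hV
  have hbij : Function.Bijective fun m : M => u.app M (kappa ξ M m) := by
    refine ⟨hinj M hM, fun y => ?_⟩
    obtain ⟨k, rfl⟩ := (hfacts M hM).2.1 y
    let m : M := k (ULift.up (1 : ℤ))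
    obtain ⟨j, hj, hjm⟩ := hM m
    haveI : NeZero j := ⟨hj.1.ne'⟩
    let c : cyc.{u + 1} j ⟶ M := AddCommGrpCat.ofHom
      ((ZMod.lift j ⟨zmultiplesHom M m, by change (j : ℤ) • m = 0; rw [natCast_zsmul]; exact hjm⟩).comp
        AddEquiv.ulift.toAddMonoidHom)
    let mk : cyc.{u + 1} j → (intU.{u} ⟶ cyc.{u + 1} j) := fun a =>
      AddCommGrpCat.ofHom ((zmultiplesHom _ a).comp AddEquiv.ulift.toAddMonoidHom)
    have hcyc : ∀ a : cyc.{u + 1} j, ∃ k : ℕ, EtAcyc.PrimesIn L k ∧ k • a = 0 := fun a =>
      ⟨j, hj, ULift.ext _ _ (by simp)⟩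
    have hsurj : Function.Surjective fun a => psi T (cyc.{u + 1} j) (mk a) := fun y => by
      obtain ⟨k', rfl⟩ := (hfacts _ hcyc).2.1 y
      refine ⟨k' (ULift.up (1 : ℤ)), congrArg (psi T _) (ConcreteCategory.hom_ext _ _ fun z => ?_)⟩
      obtain ⟨z⟩ := z
      change z • k' (ULift.up (1 : ℤ)) = _
      rw [← map_zsmul]
      exact congrArg k' (ULift.ext _ _ (by simp))
    haveI : Finite ((hCst T 0).obj (cyc.{u + 1} j)) := Finite.of_surjective _ hsurj
    have hb := (hinj _ hcyc).bijective_of_nat_card_le (Nat.card_le_card_of_surjective _ hsurj)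
    obtain ⟨a, ha⟩ := hb.2 (psi T (cyc.{u + 1} j) (mk (ULift.up 1)))
    refine ⟨c a, ?_⟩
    have h1 : u.app M ((EtCoh.stalk ξ).map ((Cst X).map c) (kappa ξ _ a)) =
        (hCst T 0).map c (u.app _ (kappa ξ _ a)) :=
      ConcreteCategory.congr_hom (u.naturality c) (kappa ξ _ a)
    rw [kappa_natural] at h1
    refine h1.trans ((congrArg ((hCst T 0).map c) ha).trans ((psi_natural T c _).trans ?_))
    refine congrArg (psi T M) (ConcreteCategory.hom_ext _ _ fun z => ?_)
    obtain ⟨z⟩ := z
    change c (z • (ULift.up 1 : cyc.{u + 1} j)) = k ⟨z⟩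
    rw [show (⟨z⟩ : intU.{u}) = z • (ULift.up (1 : ℤ) : intU.{u}) from ULift.ext _ _ (by simp), map_zsmul, map_zsmul]
    refine congrArg (z • ·) ?_
    change ZMod.lift j (⟨zmultiplesHom M m, by change (j : ℤ) • m = 0; rw [natCast_zsmul]; exact hjm⟩ :
      { g : ℤ →+ M // g j = 0 }) (1 : ZMod j) = m
    rw [show (1 : ZMod j) = ((1 : ℤ) : ZMod j) from Int.cast_one.symm, ZMod.lift_coe]
    exact one_zsmul m
  exact (Function.Bijective.of_comp_iff _ (kappa_bijective ξ M)).1 hbij

end Groth.Agent.Henz21.EtAcycComp
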