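import Mathlib.AlgebraicGeometry.Morphisms.UniversallyInjective
import Mathlib.AlgebraicGeometry.Morphisms.Integral
import Mathlib.FieldTheory.PurelyInseparable.Basic
import Mathlib.RingTheory.LocalRing.ResidueField.Basic

/-!
Radicial points over a local ring.
-/

set_option autoImplicit false
set_option backward.isDefEq.respectTransparency.types false
set_option linter.style.haveILetI false

universe u

open CategoryTheory CategoryTheory.Limits AlgebraicGeometry

namespace Groth.Agent.Henz21.EtAcycComp

/-- A point with values in a purely inseparable extension of the residue field of a local ring is universally injective,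
also as a point of any scheme over the ring. -/
theorem universallyInjective_point (R : Type u) [CommRing R] [IsLocalRing R] (Ω : Type u) [Field Ω]
    [Algebra (IsLocalRing.ResidueField R) Ω] [IsPurelyInseparable (IsLocalRing.ResidueField R) Ω]
    {W : Scheme.{u}} (v : Spec (CommRingCat.of Ω) ⟶ W) (w : W ⟶ Spec (CommRingCat.of R))
    (hvw : v ≫ w = Spec.map (CommRingCat.ofHom (algebraMap (IsLocalRing.ResidueField R) Ω)) ≫
      Spec.map (CommRingCat.ofHom (IsLocalRing.residue R))) : UniversallyInjective v := by
  refine ((tfae_universallyInjective (f := v)).out 0 1).2 fun K i g₁ g₂ h => ?_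
  letI : Field K := i
  have : IsClosedImmersion (Spec.map (CommRingCat.ofHom (IsLocalRing.residue R))) :=
    IsClosedImmersion.spec_of_surjective _ IsLocalRing.residue_surjective
  have h1 : g₁ ≫ Spec.map (CommRingCat.ofHom (algebraMap (IsLocalRing.ResidueField R) Ω)) =
      g₂ ≫ Spec.map (CommRingCat.ofHom (algebraMap (IsLocalRing.ResidueField R) Ω)) := by
    rw [← cancel_mono (Spec.map (CommRingCat.ofHom (IsLocalRing.residue R))), Category.assoc, Category.assoc, ← hvw,
      ← Category.assoc, ← Category.assoc]
    exact congrArg (· ≫ w) h
  obtain ⟨a, rfl⟩ := Spec.map_surjective g₁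
  obtain ⟨b, rfl⟩ := Spec.map_surjective g₂
  rw [← Spec.map_comp, ← Spec.map_comp] at h1
  have h' := congrArg CommRingCat.Hom.hom (Spec.map_injective h1)
  exact congrArg Spec.map (CommRingCat.hom_ext
    (IsPurelyInseparable.injective_comp_algebraMap (IsLocalRing.ResidueField R) Ω K h'))

end Groth.Agent.Henz21.EtAcycComp
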