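import Groth.Agent.Henz21.EtAcyc.ConnPsi
import Groth.Agent.Henz21.EtAcyc.AcyclicCrit
import Groth.Agent.Henz21.EtAcyc.UnivInjSpec
import Groth.Agent.Henz21.EtAcyc.CstVanish
import Groth.Agent.EtCore45.FiniteBC
import Groth.Agent.Depth22.TopDegree
import Groth.Agent.EtLim45.StalkRpush
import Groth.Agent.Henz21.Henselization
import Groth.Agent.Henz21.Unique
import Mathlib.AlgebraicGeometry.IdealSheaf.Subscheme

/-!
Geometric fibres of acyclic morphisms.
-/

set_option autoImplicit false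
set_option backward.isDefEq.respectTransparency.types false
set_option linter.style.haveILetI false

universe u

open CategoryTheory CategoryTheory.Limits CategoryTheory.Abelian AlgebraicGeometry Opposite
open Groth.Agent.EtLA91 Groth.Agent.LocConst45 Groth.Agent.Unr55.EtSh

namespace Groth.Agent.Henz21.EtAcycComp

variable {X Y : Scheme.{u}}

theorem isLTorsion_of_nsmul_id {F : EtCoh.Ab X} {L : Set ℕ} {m : ℕ} (hm : EtAcyc.PrimesIn L m)
    (h : m • 𝟙 F = 0) : EtAcyc.IsLTorsion L F := by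
  intro U s x
  refine ⟨U, 𝟙 U, m, ⟨x, rfl⟩, hm, ?_⟩
  rw [op_id, CategoryTheory.Functor.map_id, ConcreteCategory.id_apply]
  have h1 : (m • 𝟙 F : F ⟶ F).hom.app (op U) s = 0 := by rw [h]; rfl
  refine Eq.trans ?_ h1
  rfl

theorem nsmul_id_push_cst (i : Y ⟶ X) (M : AddCommGrpCat.{u + 1}) {m : ℕ} (h : ∀ x : M, m • x = 0) :
    m • 𝟙 ((EtCoh.push i).obj ((Cst Y).obj M)) = 0 := by
  have h0 : m • 𝟙 M = 0 := ConcreteCategory.hom_ext _ _ fun x => h x
  rw [← (EtCoh.push i).map_id, ← (Cst Y).map_id, ← Functor.map_nsmul, ← Functor.map_nsmul, h0, Functor.map_zero,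
    Functor.map_zero]

/-- An acyclic morphism: unit isomorphism and vanishing of higher direct images. -/
theorem vanish_of_isAcyclicN (g : X ⟶ Y) {L : Set ℕ} {n : ℕ} (hg : EtAcyc.IsAcyclicN g L n) (F : EtCoh.Ab Y)
    (hF : EtAcyc.IsLTorsion L F) :
    IsIso ((EtCoh.pullPushAdj g).unit.app F) ∧
      ∀ q : ℕ, 1 ≤ q → q ≤ n → IsZero ((EtCoh.Rpush g q).obj ((EtCoh.pull g).obj F)) := by
  refine vanish_of_Hpull_bijective g F n fun W _ q hq => ?_
  have : Etale W.hom := W.prop
  have hi := Unr55.EtSh.preservesFiniteLimits_pull (EtAcyc.prj g W)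
  exact @compN_bijective _ _ _ _ _ (hg W) _ (isLTorsion_pull W.hom hF) _ hq hi

theorem psi_bijective_of_connected {T : Scheme.{u}} [Nonempty T] [PreconnectedSpace T] (M : AddCommGrpCat.{u + 1}) :
    Function.Bijective (psi T M) :=
  ⟨psi_injective T M, psi_surjective_of_preconnected M fun _ => inferInstance⟩

/-- The points of `M` as maps from the integers. -/
noncomputable def homEquivPoints (M : AddCommGrpCat.{u + 1}) : M ≃ (intU.{u} ⟶ M) where
  toFun a := AddCommGrpCat.ofHom ((zmultiplesHom M a).comp AddEquiv.ulift.toAddMonoidHom)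
  invFun k := k (ULift.up (1 : ℤ))
  left_inv a := one_zsmul a
  right_inv k := ConcreteCategory.hom_ext _ _ fun ⟨z⟩ => by
    change z • k (ULift.up (1 : ℤ)) = k ⟨z⟩
    rw [← map_zsmul]
    exact congrArg k (ULift.ext _ _ (by simp))

/-- Cohomology of the closed fibre inside the base change to a strict henselization. -/
theorem fibre_facts (g : X ⟶ Y) [QuasiCompact g] [QuasiSeparated g] {L : Set ℕ} {n : ℕ}
    (hg : EtAcyc.IsAcyclicN g L n) {ℓ : ℕ} (hℓ : ℓ.Prime) (hℓL : ℓ ∈ L) (y : Y) (Ω : Type u) [Field Ω] [IsSepClosed Ω]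
    [Algebra (Y.residueField y) Ω] [Algebra.IsAlgebraic (Y.residueField y) Ω] :
    (∀ q : ℕ, 1 ≤ q → q ≤ n →
      Subsingleton (EtCoh.H (pullback g (EtAcyc.geomPt Y y Ω)) ((Cst _).obj (cyc.{u + 1} ℓ)) q)) ∧
    Nonempty (EtCoh.H (pullback g (EtAcyc.geomPt Y y Ω)) ((Cst _).obj (cyc.{u + 1} ℓ)) 0 ≃ cyc.{u + 1} ℓ) := by
  haveI : NeZero ℓ := ⟨hℓ.ne_zero⟩
  let M := cyc.{u + 1} ℓ
  -- the closure of the point
  let I := Scheme.IdealSheafData.vanishingIdeal (⟨closure {y}, isClosed_closure⟩ : TopologicalSpace.Closeds Y)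
  let Z := I.subscheme
  let i : Z ⟶ Y := I.subschemeι
  have hri : Set.range i = closure {y} := by
    rw [Scheme.IdealSheafData.range_subschemeι, Scheme.IdealSheafData.coe_support_vanishingIdeal]
    rfl
  let F := (EtCoh.push i).obj ((Cst Z).obj M)
  have hF : EtAcyc.IsLTorsion L F := isLTorsion_of_nsmul_id
    (show EtAcyc.PrimesIn L ℓ from ⟨hℓ.pos, fun p hp hd => by
      rw [(Nat.prime_dvd_prime_iff_eq hp hℓ).1 hd]; exact hℓL⟩)
    (nsmul_id_push_cst i M fun x => ULift.ext _ _ (by simp))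
  obtain ⟨hu, hR⟩ := vanish_of_isAcyclicN g hg F hF
  -- the strict henselization
  let R := StrictHenselization (Y.presheaf.stalk y)
  haveI hSH : Hensel.IsStrictHenselization (Y.presheaf.stalk y) R := inferInstance
  haveI : IsSepClosed (IsLocalRing.ResidueField R) := hSH.isSepClosure.sep_closed
  haveI := hSH.henselian
  let sp := Hens2.specOf Y y R
  let W := pullback i sp
  -- points of `W`
  have hWpt : ∀ w : W, pullback.snd i sp w = IsLocalRing.closedPoint R := by
    intro w
    let z := pullback.snd i sp w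
    have h1 : sp z ∈ closure ({y} : Set Y) := by
      rw [← hri, ← Scheme.Hom.comp_apply, ← pullback.condition, Scheme.Hom.comp_apply]
      exact ⟨_, rfl⟩
    have h2 : sp z ⤳ y := by
      have h : sp z ∈ Set.range (Y.fromSpecStalk y) := ⟨_, (Scheme.Hom.comp_apply _ _ _).symm⟩
      rw [Scheme.range_fromSpecStalk] at h
      exact h
    have h3 : sp z = y := (h2.antisymm (specializes_iff_mem_closure.2 h1)).eq
    have h4 : Spec.map (CommRingCat.ofHom (algebraMap (Y.presheaf.stalk y) R)) z =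
        IsLocalRing.closedPoint (Y.presheaf.stalk y) := by
      refine (Y.fromSpecStalk y).isEmbedding.injective ?_
      rw [Scheme.fromSpecStalk_closedPoint, ← Scheme.Hom.comp_apply]
      exact h3
    refine PrimeSpectrum.ext ((IsLocalRing.maximalIdeal.isMaximal R).eq_of_le z.isPrime.ne_top ?_).symm
    rw [← Henz21.strictHenselization_map_maximalIdeal (R := Y.presheaf.stalk y) R]
    refine Ideal.map_le_iff_le_comap.2 (le_of_eq ?_)
    exact (congrArg PrimeSpectrum.asIdeal h4).symm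
  have hWsub : Subsingleton W := ⟨fun a b =>
    (pullback.snd i sp).isEmbedding.injective ((hWpt a).trans (hWpt b).symm)⟩
  have hWne : Nonempty W := by
    have hy : y ∈ Set.range i := hri ▸ subset_closure rfl
    obtain ⟨z, hz⟩ := hy
    obtain ⟨w, -, -⟩ := Scheme.Pullback.exists_preimage_pullback (f := i) (g := sp) z (IsLocalRing.closedPoint R)
      (hz.trans (specOf_closedPoint y R).symm)
    exact ⟨w⟩
  -- the geometric point through `W`
  letI : Algebra (Y.residueField y) (IsLocalRing.ResidueField R) :=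
    (IsLocalRing.ResidueField.instAlgebra :
      Algebra (IsLocalRing.ResidueField (Y.presheaf.stalk y)) (IsLocalRing.ResidueField R))
  haveI : IsSepClosure (Y.residueField y) (IsLocalRing.ResidueField R) := hSH.isSepClosure
  haveI : Algebra.IsSeparable (Y.residueField y) (IsLocalRing.ResidueField R) := IsSepClosure.separable
  let π : IsLocalRing.ResidueField R →ₐ[Y.residueField y] Ω := IsSepClosed.lift
  letI : Algebra (IsLocalRing.ResidueField R) Ω := π.toRingHom.toAlgebra
  haveI : IsScalarTower (Y.residueField y) (IsLocalRing.ResidueField R) Ω :=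
    IsScalarTower.of_algebraMap_eq fun a => (π.commutes a).symm
  haveI : Algebra.IsAlgebraic (IsLocalRing.ResidueField R) Ω :=
    Algebra.IsAlgebraic.tower_top (K := Y.residueField y) (IsLocalRing.ResidueField R)
  haveI : IsPurelyInseparable (IsLocalRing.ResidueField R) Ω := inferInstance
  let c : Spec (CommRingCat.of Ω) ⟶ Spec (CommRingCat.of R) :=
    Spec.map (CommRingCat.ofHom (algebraMap (IsLocalRing.ResidueField R) Ω)) ≫
      Spec.map (CommRingCat.ofHom (IsLocalRing.residue R))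
  have hc : c ≫ sp = EtAcyc.geomPt Y y Ω := by
    change (Spec.map _ ≫ Spec.map _) ≫ Spec.map _ ≫ Y.fromSpecStalk y = Spec.map _ ≫ Spec.map (Y.residue y) ≫ _
    simp only [Category.assoc, ← Spec.map_comp_assoc]
    refine congrArg (fun r => Spec.map r ≫ Y.fromSpecStalk y) (CommRingCat.hom_ext (RingHom.ext fun a => ?_))
    exact π.commutes (Y.residue y a)
  have hrange : Set.range (EtAcyc.geomPt Y y Ω) ⊆ Set.range i := by
    rintro _ ⟨o, rfl⟩
    rw [hri, EtAcyc.geomPt, Scheme.Hom.comp_apply, Scheme.fromSpecResidueField_apply]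
    exact subset_closure rfl
  haveI : IsReduced (Spec (CommRingCat.of Ω)) := inferInstance
  haveI : Surjective (pullback.snd i (EtAcyc.geomPt Y y Ω)) := ⟨fun o => by
    obtain ⟨a, ha⟩ := hrange ⟨o, rfl⟩
    obtain ⟨b, -, hb⟩ := Scheme.Pullback.exists_preimage_pullback (f := i) (g := EtAcyc.geomPt Y y Ω) a o ha
    exact ⟨b, hb⟩⟩
  haveI : IsIso (pullback.snd i (EtAcyc.geomPt Y y Ω)) := isIso_of_isClosedImmersion_of_surjective _
  let z : Spec (CommRingCat.of Ω) ⟶ Z := inv (pullback.snd i (EtAcyc.geomPt Y y Ω)) ≫ pullback.fst i _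
  have hz : z ≫ i = EtAcyc.geomPt Y y Ω := by
    rw [Category.assoc, pullback.condition, IsIso.inv_hom_id_assoc]
  let v : Spec (CommRingCat.of Ω) ⟶ W := pullback.lift z c (hz.trans hc.symm)
  have hvs : v ≫ pullback.snd i sp = c := pullback.lift_snd _ _ _
  haveI : IsClosedImmersion (Spec.map (CommRingCat.ofHom (IsLocalRing.residue R))) :=
    IsClosedImmersion.spec_of_surjective _ IsLocalRing.residue_surjective
  haveI : IsIntegralHom (Spec.map (CommRingCat.ofHom (algebraMap (IsLocalRing.ResidueField R) Ω))) := by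
    rw [IsIntegralHom.SpecMap_iff]
    exact algebraMap_isIntegral_iff.2 inferInstance
  haveI : IsIntegralHom c := inferInstance
  haveI : IsIntegralHom (v ≫ pullback.snd i sp) := by rw [hvs]; infer_instance
  haveI hv1 : IsIntegralHom v := IsIntegralHom.of_comp v (pullback.snd i sp)
  haveI hv2 : UniversallyInjective v := universallyInjective_point R Ω v (pullback.snd i sp) hvs
  haveI hv3 : Surjective v := ⟨fun w => ⟨default, Subsingleton.elim _ _⟩⟩
  -- the fibres
  let T := pullback g sp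
  let p : T ⟶ X := pullback.fst g sp
  let TZ := pullback i (pullback.snd g sp ≫ sp)
  let q' : TZ ⟶ W := pullback.lift (pullback.fst i (pullback.snd g sp ≫ sp))
    (pullback.snd i (pullback.snd g sp ≫ sp) ≫ pullback.snd g sp)
    (pullback.condition.trans (Category.assoc _ _ _).symm)
  have sqB : IsPullback q' (pullback.snd i (pullback.snd g sp ≫ sp)) (pullback.snd i sp) (pullback.snd g sp) :=
    IsPullback.of_right (by rw [pullback.lift_fst]; exact IsPullback.of_hasPullback _ _) (pullback.lift_snd _ _ _)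
      (IsPullback.of_hasPullback i sp)
  let XΩ := pullback g (EtAcyc.geomPt Y y Ω)
  let m : XΩ ⟶ T := pullback.lift (pullback.fst g _) (pullback.snd g (EtAcyc.geomPt Y y Ω) ≫ c)
    (pullback.condition.trans ((congrArg (_ ≫ ·) hc.symm).trans (Category.assoc _ _ _).symm))
  have sqM : IsPullback m (pullback.snd g (EtAcyc.geomPt Y y Ω)) (pullback.snd g sp) c :=
    IsPullback.of_right (by rw [pullback.lift_fst, hc]; exact IsPullback.of_hasPullback _ _) (pullback.lift_snd _ _ _)
      (IsPullback.of_hasPullback g sp)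
  let h : XΩ ⟶ TZ := sqB.lift (pullback.snd g _ ≫ v) m (by rw [Category.assoc, hvs]; exact sqM.w.symm)
  have sqH : IsPullback h (pullback.snd g (EtAcyc.geomPt Y y Ω)) q' v :=
    IsPullback.of_right (by rw [sqB.lift_snd, hvs]; exact sqM) (sqB.lift_fst _ _ _) sqB.flip
  haveI : IsIntegralHom h := MorphismProperty.of_isPullback sqH.flip hv1
  haveI : UniversallyInjective h := MorphismProperty.of_isPullback sqH.flip hv2
  haveI : Surjective h := MorphismProperty.of_isPullback sqH.flip hv3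
  have := Unr55.EtSh.preservesFiniteLimits_pull h
  -- transfer of cohomology
  let iT : TZ ⟶ T := pullback.snd i (pullback.snd g sp ≫ sp)
  haveI : IsClosedImmersion iT := inferInstanceAs (IsClosedImmersion (pullback.snd i (pullback.snd g sp ≫ sp)))
  have := EtCore45.isIso_baseChange0_finite i (pullback.snd g sp ≫ sp) iT (pullback.fst i _)
    (IsPullback.of_hasPullback i (pullback.snd g sp ≫ sp)) ((Cst Z).obj M)
  let G := (EtCoh.pull p).obj ((EtCoh.pull g).obj F)
  let eG : G ≅ (EtCoh.push iT).obj ((Cst TZ).obj M) :=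
    ((EtCore.pullComp p g).app F).symm ≪≫ (EtCore.pullCongr pullback.condition).app F ≪≫
      asIso (EtCoh.baseChange0 i (pullback.snd g sp ≫ sp) iT (pullback.fst i _) pullback.condition ((Cst Z).obj M)) ≪≫
      (EtCoh.push iT).mapIso ((EtCore.pullConstIso (pullback.fst i _)).app M)
  have := Unr55.EtSh.preservesFiniteLimits_pull iT
  have hT : ∀ q, Nonempty (EtCoh.H T G q ≃ EtCoh.H XΩ ((Cst XΩ).obj M) q) := fun q => by
    let e1 : EtCoh.H T G q ≃+ EtCoh.H T ((EtCoh.push iT).obj ((Cst TZ).obj M)) q :=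
      ((EtCoh.HF T q).mapIso eG).addCommGroupIsoToAddEquiv
    have hb := EtCore45.adjTransfer_bijective.{u + 1} (EtCoh.pullPushAdj iT) (EtCore.pullConst iT ℤ).inv q
      ((Cst TZ).obj M) (fun p hp => isZero_Rpush_of_finite iT _ p hp)
    let e2 : EtCoh.H T ((EtCoh.push iT).obj ((Cst TZ).obj M)) q ≃ EtCoh.H TZ ((Cst TZ).obj M) q :=
      Equiv.ofBijective _ hb
    let e3 : EtCoh.H TZ ((Cst TZ).obj M) q ≃ EtCoh.H XΩ ((EtCoh.pull h).obj ((Cst TZ).obj M)) q :=
      Equiv.ofBijective _ (EtCore45.Hpull_bijective_uh h ((Cst TZ).obj M) q)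
    let e4 : EtCoh.H XΩ ((EtCoh.pull h).obj ((Cst TZ).obj M)) q ≃+ EtCoh.H XΩ ((Cst XΩ).obj M) q :=
      ((EtCoh.HF XΩ q).mapIso ((EtCore.pullConstIso h).app M)).addCommGroupIsoToAddEquiv
    exact ⟨e1.toEquiv.trans (e2.trans (e3.trans e4.toEquiv))⟩
  refine ⟨fun q hq hqn => ?_, ?_⟩
  · obtain ⟨e⟩ := EtLim45.nonempty_stalk_Rpush_sh g y R q
    haveI : Subsingleton ((EtCoh.stalk (Hens2.geomPt Y y R)).obj ((EtCoh.Rpush g q).obj ((EtCoh.pull g).obj F))) :=
      AddCommGrpCat.subsingleton_of_isZero ((EtCoh.stalk _).map_isZero (hR q hq hqn))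
    let e1 : EtCoh.H T G q ≃+ ((EtCoh.stalk (Hens2.geomPt Y y R)).obj ((EtCoh.Rpush g q).obj ((EtCoh.pull g).obj F))) :=
      (e.app ((EtCoh.pull g).obj F)).addCommGroupIsoToAddEquiv.symm
    haveI : Subsingleton (EtCoh.H T G q) := e1.toEquiv.subsingleton
    obtain ⟨e'⟩ := hT q
    exact e'.symm.subsingleton
  · obtain ⟨e⟩ := EtLim45.nonempty_stalk_Rpush_sh g y R 0
    obtain ⟨ei⟩ := EtLim45.nonempty_stalk_Rpush_sh i y R 0
    obtain ⟨e'⟩ := hT 0
    let ξ := Hens2.geomPt Y y R
    let d1 : EtCoh.H T G 0 ≃ ((EtCoh.stalk ξ).obj F) :=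
      (((EtCoh.stalk ξ).mapIso (asIso ((EtCoh.pullPushAdj g).unit.app F) ≪≫
        (EtCoh.push g).rightDerivedZeroIsoSelf.symm.app ((EtCoh.pull g).obj F))) ≪≫
        e.app ((EtCoh.pull g).obj F)).addCommGroupIsoToAddEquiv.toEquiv.symm
    let d2 : ((EtCoh.stalk ξ).obj F) ≃ (EtCoh.HF W 0).obj ((Cst W).obj M) :=
      (((EtCoh.stalk ξ).mapIso ((EtCoh.push i).rightDerivedZeroIsoSelf.symm.app ((Cst Z).obj M))) ≪≫
        ei.app ((Cst Z).obj M) ≪≫
        (EtCoh.HF W 0).mapIso ((EtCore.pullConstIso (pullback.fst i sp)).app M)).addCommGroupIsoToAddEquiv.toEquiv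
    haveI : PreconnectedSpace W := ⟨Set.subsingleton_univ.isPreconnected⟩
    exact ⟨e'.symm.trans (d1.trans (d2.trans
      ((Equiv.ofBijective _ (psi_bijective_of_connected (T := W) M)).symm.trans (homEquivPoints M).symm)))⟩

/-- Geometric fibres of acyclic morphisms are acyclic. -/
theorem geomFibresAcyclicN (g : X ⟶ Y) [QuasiCompact g] [QuasiSeparated g] {L : Set ℕ}
    (hL : ∃ ℓ ∈ L, ℓ.Prime) {n : ℕ} (hg : EtAcyc.IsAcyclicN g L n) : EtAcyc.GeomFibresAcyclicN L n g := by
  intro y Ω _ _ _ _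
  obtain ⟨ℓ, hℓL, hℓ⟩ := hL
  haveI : NeZero ℓ := ⟨hℓ.ne_zero⟩
  haveI : Fact ℓ.Prime := ⟨hℓ⟩
  obtain ⟨-, ⟨e⟩⟩ := fibre_facts g hg hℓ hℓL y Ω
  let T := pullback g (EtAcyc.geomPt Y y Ω)
  let M := cyc.{u + 1} ℓ
  haveI : Nontrivial M := Equiv.nontrivial Equiv.ulift
  haveI : Nontrivial (EtCoh.H T ((Cst T).obj M) 0) := e.nontrivial
  haveI hne : Nonempty T := nonempty_of_nontrivial_H0 T M ((Cst T).obj M) ((homEquivPoints M) 0)
  haveI : Finite (EtCoh.H T ((Cst T).obj M) 0) := Finite.of_equiv _ e.symm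
  have hs : Function.Surjective (psi T M) :=
    ((psi_injective T M).bijective_of_nat_card_le
      (le_of_eq ((Nat.card_congr e).trans (Nat.card_congr (homEquivPoints M))))).2
  haveI : PreconnectedSpace T := preconnected_of_psi_surjective M hs
  exact ⟨hne, ⟨hne⟩, fun m hm hmL q hq hqn => (fibre_facts g hg hm hmL y Ω).1 q hq hqn⟩

end Groth.Agent.Henz21.EtAcycComp
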