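import Groth.Prelude.Def_EtAcyc
import Groth.Agent.Henz21.StrictMap
import Groth.Agent.Henz21.Henselization
import Mathlib.FieldTheory.IsSepClosed

/-!
Strict localizations of a composite morphism.
-/

set_option autoImplicit false
set_option linter.style.haveILetI false

universe u

open CategoryTheory AlgebraicGeometry IsLocalRing Polynomial

namespace Groth.Agent.Henz21.EtAcycComp

theorem exists_factor_sepClosed {k K M Ω : Type u} [Field k] [Field K] [Field M] [Field Ω] [Algebra k K]
    [Algebra.IsSeparable k K] [IsSepClosed M] (i : k →+* M) (ψ : M →+* Ω) (φ : K →+* Ω)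
    (h : φ.comp (algebraMap k K) = ψ.comp i) : ∃ χ : K →+* M, ψ.comp χ = φ := by
  have hc : ∀ c : K, ∃ m : M, ψ m = φ c := by
    intro c
    let p := (minpoly k c).map i
    have hsep : p.Separable := Separable.map (Algebra.IsSeparable.isSeparable k c)
    have hs : p.Splits := IsSepClosed.splits_of_separable p hsep
    have hne : p.map ψ ≠ 0 := (Polynomial.map_ne_zero_iff ψ.injective).2 hsep.ne_zero
    have hroot : (p.map ψ).IsRoot (φ c) := by
      rw [Polynomial.IsRoot.def, Polynomial.map_map, Polynomial.eval_map, ← h,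
        ← Polynomial.hom_eval₂]
      rw [← Polynomial.aeval_def, minpoly.aeval, map_zero]
    have hmem := (Polynomial.mem_roots hne).2 hroot
    rw [hs.roots_map ψ] at hmem
    obtain ⟨m, -, hm⟩ := Multiset.mem_map.1 hmem
    exact ⟨m, hm⟩
  choose χ hχ using hc
  refine ⟨{ toFun := χ
            map_one' := ψ.injective (by simp [hχ])
            map_mul' := fun a b => ψ.injective (by simp [hχ])
            map_zero' := ψ.injective (by simp [hχ])
            map_add' := fun a b => ψ.injective (by simp [hχ]) }, RingHom.ext hχ⟩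

/-- A map of strict henselizations along a composite factors through a strict henselization of the
intermediate ring. -/
theorem exists_factor {A B C RA RB RC : Type u} [CommRing A] [IsLocalRing A] [CommRing B] [IsLocalRing B]
    [CommRing C] [IsLocalRing C] [CommRing RA] [IsLocalRing RA] [CommRing RB] [IsLocalRing RB]
    [CommRing RC] [IsLocalRing RC] [Algebra A RA] [IsLocalHom (algebraMap A RA)]
    [hA : Hensel.IsStrictHenselization A RA] [Algebra B RB] [IsLocalHom (algebraMap B RB)]
    [hB : Hensel.IsStrictHenselization B RB] [Algebra C RC] [IsLocalHom (algebraMap C RC)]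
    [hC : Hensel.IsStrictHenselization C RC] (s : A →+* B) (t : B →+* C) [IsLocalHom s] [IsLocalHom t]
    (φ : RA →+* RC) [IsLocalHom φ] (hφ : φ.comp (algebraMap A RA) = (algebraMap C RC).comp (t.comp s)) :
    ∃ (χ : RA →+* RB) (ψ : RB →+* RC), IsLocalHom χ ∧ IsLocalHom ψ ∧
      χ.comp (algebraMap A RA) = (algebraMap B RB).comp s ∧
      ψ.comp (algebraMap B RB) = (algebraMap C RC).comp t ∧ ψ.comp χ = φ := by
  haveI := hB.henselian
  haveI := hC.henselian
  haveI : IsSepClosed (ResidueField RB) := hB.isSepClosure.sep_closed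
  haveI : IsSepClosed (ResidueField RC) := hC.isSepClosure.sep_closed
  obtain ⟨ψ, hψ, hψl⟩ := exists_map_of_strictHenselization (Ash := RB) ((algebraMap C RC).comp t)
  haveI := hψl
  haveI : Algebra.IsSeparable (ResidueField A) (ResidueField RA) :=
    haveI := hA.isSepClosure
    IsSepClosure.separable
  have hres : (ResidueField.map φ).comp (algebraMap (ResidueField A) (ResidueField RA)) =
      (ResidueField.map ψ).comp (ResidueField.map ((algebraMap B RB).comp s)) := by
    refine RingHom.ext fun x => ?_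
    obtain ⟨a, rfl⟩ := residue_surjective x
    change residue RC (φ (algebraMap A RA a)) = residue RC (ψ (algebraMap B RB (s a)))
    exact congrArg (residue RC) ((RingHom.congr_fun hφ a).trans (RingHom.congr_fun hψ (s a)).symm)
  obtain ⟨τ, hτ⟩ := exists_factor_sepClosed _ (ResidueField.map ψ) _ hres
  have hτ' : τ.comp (ResidueField.map (algebraMap A RA)) = ResidueField.map ((algebraMap B RB).comp s) := by
    refine RingHom.ext fun x => (ResidueField.map ψ).injective ?_
    exact (RingHom.congr_fun hτ _).trans (RingHom.congr_fun hres x)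
  obtain ⟨χ, ⟨hχ, hχr⟩, -⟩ := hA.universal RB ((algebraMap B RB).comp s) τ hτ'
  haveI hχl : IsLocalHom χ := ⟨fun x hx => by
    have h1 : residue RB (χ x) ≠ 0 := fun h => notMem_maximalIdeal.mpr hx ((residue_eq_zero_iff _).mp h)
    rw [hχr] at h1
    exact notMem_maximalIdeal.mp fun h => h1 (by rw [(residue_eq_zero_iff x).mpr h, map_zero])⟩
  refine ⟨χ, ψ, hχl, hψl, hχ, hψ, ?_⟩
  have hτφ : (ResidueField.map φ).comp (ResidueField.map (algebraMap A RA)) =
      ResidueField.map ((algebraMap C RC).comp (t.comp s)) := by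
    refine RingHom.ext fun x => ?_
    obtain ⟨a, rfl⟩ := residue_surjective x
    exact congrArg (residue RC) (RingHom.congr_fun hφ a)
  refine (hA.universal RC ((algebraMap C RC).comp (t.comp s)) (ResidueField.map φ) hτφ).unique ⟨?_, fun x => ?_⟩
    ⟨hφ, fun x => rfl⟩
  · rw [RingHom.comp_assoc, hχ, ← RingHom.comp_assoc, hψ]
    rfl
  · change residue RC (ψ (χ x)) = _
    rw [← ResidueField.map_residue ψ, hχr x]
    exact RingHom.congr_fun hτ _

variable {X Y Z : Scheme.{u}} (g : X ⟶ Y) (h : Y ⟶ Z)

/-- A property of morphisms with two-out-of-three along composites is inherited by strict localizations. -/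
theorem onStrictLocalizations_comp_iff (P : ∀ ⦃X' Y' : Scheme.{u}⦄, (X' ⟶ Y') → Prop)
    (hP : ∀ {A B C : Scheme.{u}} (a : A ⟶ B) (b : B ⟶ C), P a → (P b ↔ P (a ≫ b)))
    (hs : Function.Surjective g.base) (hg : EtAcyc.OnStrictLocalizations g P) :
    EtAcyc.OnStrictLocalizations h P ↔ EtAcyc.OnStrictLocalizations (g ≫ h) P := by
  constructor
  · intro hh x RZ RX _ _ _ _ _ _ _ _ _ _ alg _ hc
    let RY := StrictHenselization (Y.presheaf.stalk (g.base x))
    letI algZ : Algebra (Z.presheaf.stalk (h.base (g.base x))) RZ :=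
      inferInstanceAs (Algebra (Z.presheaf.stalk ((g ≫ h).base x)) RZ)
    haveI : IsLocalHom (algebraMap (Z.presheaf.stalk (h.base (g.base x))) RZ) :=
      inferInstanceAs (IsLocalHom (algebraMap (Z.presheaf.stalk ((g ≫ h).base x)) RZ))
    haveI : Hensel.IsStrictHenselization (Z.presheaf.stalk (h.base (g.base x))) RZ :=
      inferInstanceAs (Hensel.IsStrictHenselization (Z.presheaf.stalk ((g ≫ h).base x)) RZ)
    obtain ⟨χ, ψ, hχl, hψl, hχ, hψ, hψχ⟩ := exists_factor (A := Z.presheaf.stalk (h.base (g.base x)))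
      (RB := RY) (h.stalkMap (g.base x)).hom (g.stalkMap x).hom (algebraMap RZ RX)
      (by rw [← CommRingCat.hom_comp, ← Scheme.Hom.stalkMap_comp]; exact hc)
    have h1 : P (Spec.map (CommRingCat.ofHom ψ)) :=
      @hg x RY RX _ _ _ _ _ _ _ _ _ _ ψ.toAlgebra hψl hψ
    have h2 : P (Spec.map (CommRingCat.ofHom χ)) :=
      @hh (g.base x) RZ RY _ _ _ _ _ _ _ _ _ _ χ.toAlgebra hχl hχ
    have h3 := (hP _ _ h1).1 h2
    rw [← Spec.map_comp, ← CommRingCat.ofHom_comp, hψχ] at h3
    exact h3
  · intro hgh y RZ RY _ _ _ _ _ _ _ _ _ _ alg hal hc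
    obtain ⟨x, rfl⟩ := hs y
    let RX := StrictHenselization (X.presheaf.stalk x)
    haveI : IsSepClosed (ResidueField RX) :=
      (inferInstance : Hensel.IsStrictHenselization (X.presheaf.stalk x) RX).isSepClosure.sep_closed
    obtain ⟨ψ, hψ, hψl⟩ := exists_map_of_strictHenselization (Ash := RY)
      ((algebraMap (X.presheaf.stalk x) RX).comp (g.stalkMap x).hom)
    have h1 : P (Spec.map (CommRingCat.ofHom ψ)) :=
      @hg x RY RX _ _ _ _ _ _ _ _ _ _ ψ.toAlgebra hψl hψ
    refine (hP _ _ h1).2 ?_
    letI algZ : Algebra (Z.presheaf.stalk ((g ≫ h).base x)) RZ :=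
      inferInstanceAs (Algebra (Z.presheaf.stalk (h.base (g.base x))) RZ)
    haveI : IsLocalHom (algebraMap (Z.presheaf.stalk ((g ≫ h).base x)) RZ) :=
      inferInstanceAs (IsLocalHom (algebraMap (Z.presheaf.stalk (h.base (g.base x))) RZ))
    haveI : Hensel.IsStrictHenselization (Z.presheaf.stalk ((g ≫ h).base x)) RZ :=
      inferInstanceAs (Hensel.IsStrictHenselization (Z.presheaf.stalk (h.base (g.base x))) RZ)
    rw [← Spec.map_comp, ← CommRingCat.ofHom_comp]
    refine @hgh x RZ RX _ _ _ _ _ _ _ _ _ _ (ψ.comp (algebraMap RZ RY)).toAlgebra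
      (RingHom.isLocalHom_comp ψ (algebraMap RZ RY)) ?_
    refine RingHom.ext fun a => ?_
    change ψ (algebraMap RZ RY _) = algebraMap (X.presheaf.stalk x) RX (((g ≫ h).stalkMap x).hom a)
    rw [Scheme.Hom.stalkMap_comp]
    exact (congrArg ψ (RingHom.congr_fun hc a)).trans (RingHom.congr_fun hψ _)

end Groth.Agent.Henz21.EtAcycComp
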