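import Groth.Agent.EtCore45.MVSect
import Groth.Prelude.Def_EtCore

/-!
Sections of inverse images around a square with etale sides.
-/

set_option autoImplicit false
set_option backward.isDefEq.respectTransparency.types false

universe u

open CategoryTheory CategoryTheory.Limits AlgebraicGeometry Opposite
open Groth.Agent.EtCore45 Groth.Agent.EtCore45.MV

namespace Groth.Agent.Henz21.EtAcycComp

variable {W U Y : Scheme.{u}}

/-- The projection of a base change to the original etale scheme. -/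
noncomputable abbrev bcFst (k : W ⟶ Y) (V : Y.Etale) : ((EtCoh.bc k).obj V).left ⟶ V.left :=
  pullback.fst V.hom k

theorem bcFst_map (k : W ⟶ Y) {V V' : Y.Etale} (φ : V' ⟶ V) :
    ((EtCoh.bc k).map φ).left ≫ bcFst k V = bcFst k V' ≫ φ.left :=
  (EtCoh.isPullback_bc_map k φ).w

theorem bcFst_comp_hom (f : W ⟶ U) (j : U ⟶ Y) (V : Y.Etale) :
    ((MorphismProperty.Over.pullbackComp (P := EtCoh.etaleMP) (Q := ⊤) f j).app V).hom.left ≫
      bcFst f ((EtCoh.bc j).obj V) ≫ bcFst j V = bcFst (f ≫ j) V :=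
  MorphismProperty.Over.pullbackComp_left_fst_fst f j V

theorem bcFst_comp_inv (f : W ⟶ U) (j : U ⟶ Y) (V : Y.Etale) :
    ((MorphismProperty.Over.pullbackComp (P := EtCoh.etaleMP) (Q := ⊤) f j).app V).inv.left ≫
      bcFst (f ≫ j) V = bcFst f ((EtCoh.bc j).obj V) ≫ bcFst j V := by
  rw [← bcFst_comp_hom f j V, ← Category.assoc, ← MorphismProperty.Comma.comp_left, Iso.inv_hom_id]
  exact Category.id_comp _

theorem bcFst_top_inv (f : W ⟶ Y) : (EtCore.bcTopIso f).inv.left ≫ bcFst f (EtCoh.top Y) = f := by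
  have h1 : (EtCore.bcTopIso f).inv.left ≫ pullback.snd (EtCoh.top Y).hom f = 𝟙 W :=
    Over.w (EtCore.bcTopIso f).inv.hom
  have h2 : bcFst f (EtCoh.top Y) ≫ (EtCoh.top Y).hom = pullback.snd (EtCoh.top Y).hom f ≫ f :=
    pullback.condition
  have h3 : bcFst f (EtCoh.top Y) = pullback.snd (EtCoh.top Y).hom f ≫ f :=
    (Category.comp_id _).symm.trans h2
  rw [h3]
  exact ((Category.assoc _ _ _).symm.trans (congrArg (fun z => z ≫ f) h1)).trans (Category.id_comp f)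

theorem unit_left_bcFst (j : U ⟶ Y) [Etale j] (V : U.Etale) :
    ((compBcAdj j).unit.app V).left ≫ bcFst j ((EtShriek.compEtale j).obj V) = 𝟙 V.left :=
  pullback.lift_fst _ _ _

/-- A section of an inverse image along an etale morphism comes from its image. -/
theorem sect_preimage (j : U ⟶ Y) [Etale j] {A : EtCoh.Ab Y}
    (x : EtCoh.sect ((EtCoh.pull j).obj A) (EtCoh.top U)) :
    x = ((EtCoh.pull j).obj A).obj.map ((compBcAdj j).unit.app (EtCoh.top U)).op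
      (unitSect j A _ (pullSect j A (EtCoh.top U) x)) := by
  refine (pullSect_bijective j A _).1 ?_
  rw [pullSect_map]
  refine Eq.trans ?_ (congrArg _ (pullSect_unitSect j A _ _).symm)
  refine Eq.trans ?_ (map_map A _ _ _).symm
  exact (map_endo A _ ((compBcAdj j).left_triangle_components (EtCoh.top U)) _).symm

theorem pullComp_hom_unitSect (f : W ⟶ U) (j : U ⟶ Y) (A : EtCoh.Ab Y) (V : Y.Etale)
    (a : EtCoh.sect A V) :
    ((EtCore.pullComp f j).app A).hom.hom.app _ (unitSect (f ≫ j) A V a) =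
      ((EtCoh.pull f).obj ((EtCoh.pull j).obj A)).obj.map
        ((MorphismProperty.Over.pullbackComp (P := EtCoh.etaleMP) (Q := ⊤) f j).app V).hom.op
        (unitSect f _ _ (unitSect j A V a)) := by
  let adj2 := ((EtCoh.pullPushAdj j).comp (EtCoh.pullPushAdj f)).ofNatIsoRight (EtCoh.pushComp j f)
  have h1 := Adjunction.unit_leftAdjointUniq_hom_app (EtCoh.pullPushAdj (f ≫ j)) adj2 A
  exact (ConcreteCategory.congr_hom (congrArg (fun k => k.hom.app (op V)) h1) a : _)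

theorem pullComp_inv_unitSect (f : W ⟶ U) (j : U ⟶ Y) (A : EtCoh.Ab Y) (V : Y.Etale)
    (a : EtCoh.sect A V) :
    ((EtCore.pullComp f j).app A).inv.hom.app _ (unitSect f _ _ (unitSect j A V a)) =
      ((EtCoh.pull (f ≫ j)).obj A).obj.map
        ((MorphismProperty.Over.pullbackComp (P := EtCoh.etaleMP) (Q := ⊤) f j).app V).inv.op
        (unitSect (f ≫ j) A V a) := by
  let PP := (EtCoh.pull f).obj ((EtCoh.pull j).obj A)
  let i := (MorphismProperty.Over.pullbackComp (P := EtCoh.etaleMP) (Q := ⊤) f j).app V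
  have h3 : unitSect f _ _ (unitSect j A V a) = ((EtCore.pullComp f j).app A).hom.hom.app _
      (((EtCoh.pull (f ≫ j)).obj A).obj.map i.inv.op (unitSect (f ≫ j) A V a)) :=
    ((app_map ((EtCore.pullComp f j).app A).hom i.inv _).trans ((congrArg _ (pullComp_hom_unitSect f j A V a)).trans
      ((map_map PP _ _ _).trans (map_endo PP _ i.inv_hom_id _)))).symm
  rw [h3]
  exact iso_app_inv ((EtCore.pullComp f j).app A) _ _

theorem pullCongr_unitSect {k k' : W ⟶ Y} (w : k = k') (A : EtCoh.Ab Y) (V : Y.Etale)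
    (a : EtCoh.sect A V) :
    ∃ d : (EtCoh.bc k).obj V ⟶ (EtCoh.bc k').obj V, d.left ≫ bcFst k' V = bcFst k V ∧
      ((EtCore.pullCongr w).app A).hom.hom.app _ (unitSect k A V a) =
        ((EtCoh.pull k').obj A).obj.map d.op (unitSect k' A V a) := by
  subst w
  refine ⟨𝟙 _, Category.id_comp _, ?_⟩
  rw [op_id, CategoryTheory.Functor.map_id]
  rfl

theorem comp_chain {C : Type*} [Category C] {A₀ A₁ A₂ A₃ A₄ A₅ B T T' : C} {b : A₀ ⟶ A₁} {c : A₁ ⟶ A₂}
    {i : A₂ ⟶ A₃} {d : A₃ ⟶ A₄} {i' : A₄ ⟶ A₅} {p : A₅ ⟶ T} {q : A₄ ⟶ T} {q₂ : A₃ ⟶ T} {r : A₂ ⟶ B}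
    {s : B ⟶ T} {r' : A₁ ⟶ T'} {δ : T' ⟶ B} {δs : T' ⟶ T} {res : A₀ ⟶ T}
    (h1 : i' ≫ p = q) (h2 : d ≫ q = q₂) (h3 : i ≫ q₂ = r ≫ s) (h4 : c ≫ r = r' ≫ δ) (h5 : δ ≫ s = δs)
    (h6 : b ≫ r' ≫ δs = res) : (b ≫ c ≫ i ≫ d ≫ i') ≫ p = res := by
  subst h6 h5
  simp only [Category.assoc]
  rw [h1, h2, h3, reassoc_of% h4]

theorem three_step {A B C D : EtCoh.Ab W} (p : A ⟶ B) (q : B ⟶ C) (r : C ⟶ D) {a b c e : W.Etale}
    {i : a ⟶ b} {d : b ⟶ c} {i' : c ⟶ e} {z₁ : EtCoh.sect A a} {z₂ : EtCoh.sect B b}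
    {z₃ : EtCoh.sect C c} {z₄ : EtCoh.sect D e}
    (h1 : p.hom.app (op a) z₁ = B.obj.map i.op z₂) (h2 : q.hom.app (op b) z₂ = C.obj.map d.op z₃)
    (h3 : r.hom.app (op c) z₃ = D.obj.map i'.op z₄) :
    (p ≫ q ≫ r).hom.app (op a) z₁ = D.obj.map (i ≫ d ≫ i').op z₄ := by
  change r.hom.app (op a) (q.hom.app (op a) (p.hom.app (op a) z₁)) = _
  rw [h1, app_map q i, h2, app_map r i, app_map r d, h3, map_map, map_map, Category.assoc]

/-- The canonical identification around a square. -/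
noncomputable abbrev sqIso {X P : Scheme.{u}} {g' : P ⟶ U} {j' : P ⟶ X} {j : U ⟶ Y} {g : X ⟶ Y}
    (w : g' ≫ j = j' ≫ g) :
    EtCoh.pull j ⋙ EtCoh.pull g' ≅ EtCoh.pull g ⋙ EtCoh.pull j' :=
  (EtCore.pullComp g' j).symm ≪≫ EtCore.pullCongr w ≪≫ EtCore.pullComp j' g

/-- The comparison of objects on the etale site of the base change. -/
noncomputable abbrev sqMor {X P : Scheme.{u}} {g' : P ⟶ U} {j' : P ⟶ X} {j : U ⟶ Y} {g : X ⟶ Y} {V : Y.Etale}
    (δ : EtCoh.top U ⟶ (EtCoh.bc j).obj V)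
    (d₁ : (EtCoh.bc (g' ≫ j)).obj V ⟶ (EtCoh.bc (j' ≫ g)).obj V) :
    EtCoh.top P ⟶ (EtCoh.bc j').obj ((EtCoh.bc g).obj V) :=
  (EtCore.bcTopIso g').inv ≫ (EtCoh.bc g').map δ ≫
    (((MorphismProperty.Over.pullbackComp (P := EtCoh.etaleMP) (Q := ⊤) g' j).app V).inv ≫ d₁ ≫
      ((MorphismProperty.Over.pullbackComp (P := EtCoh.etaleMP) (Q := ⊤) j' g).app V).hom)

theorem sqMor_fst {X P : Scheme.{u}} {g' : P ⟶ U} {j' : P ⟶ X} {j : U ⟶ Y} {g : X ⟶ Y} {V : Y.Etale}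
    (δ : EtCoh.top U ⟶ (EtCoh.bc j).obj V)
    (d₁ : (EtCoh.bc (g' ≫ j)).obj V ⟶ (EtCoh.bc (j' ≫ g)).obj V)
    (hd₁ : d₁.left ≫ bcFst (j' ≫ g) V = bcFst (g' ≫ j) V) {v : U ⟶ V.left} (hv : δ.left ≫ bcFst j V = v) :
    (sqMor δ d₁).left ≫ bcFst j' ((EtCoh.bc g).obj V) ≫ bcFst g V = g' ≫ v :=
  comp_chain (bcFst_comp_hom j' g V) hd₁ (bcFst_comp_inv g' j V) (bcFst_map g' δ) hv
    ((Category.assoc _ _ _).symm.trans (congrArg (fun z => z ≫ v) (bcFst_top_inv g')))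

theorem trans_app_hom {C D : Type*} [Category C] [Category D] {F₁ F₂ F₃ F₄ : C ⥤ D} (α : F₂ ≅ F₁)
    (β : F₂ ≅ F₃) (γ : F₃ ≅ F₄) (A : C) :
    ((α.symm ≪≫ β ≪≫ γ).app A).hom = (α.app A).inv ≫ (β.app A).hom ≫ (γ.app A).hom := rfl

theorem sqIso_hom_app {X P : Scheme.{u}} {g' : P ⟶ U} {j' : P ⟶ X} {j : U ⟶ Y} {g : X ⟶ Y}
    (w : g' ≫ j = j' ≫ g) (F : EtCoh.Ab Y) :
    ((sqIso w).app F).hom = ((EtCore.pullComp g' j).app F).inv ≫ ((EtCore.pullCongr w).app F).hom ≫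
      ((EtCore.pullComp j' g).app F).hom := by
  exact trans_app_hom (EtCore.pullComp g' j) (EtCore.pullCongr w) (EtCore.pullComp j' g) F

theorem sqIso_unitSect {X P : Scheme.{u}} {g' : P ⟶ U} {j' : P ⟶ X} {j : U ⟶ Y} {g : X ⟶ Y}
    (w : g' ≫ j = j' ≫ g) (F : EtCoh.Ab Y) (V : Y.Etale) (a : EtCoh.sect F V) :
    ∃ d₁ : (EtCoh.bc (g' ≫ j)).obj V ⟶ (EtCoh.bc (j' ≫ g)).obj V,
      d₁.left ≫ bcFst (j' ≫ g) V = bcFst (g' ≫ j) V ∧
    ((sqIso w).app F).hom.hom.app _ (unitSect g' _ _ (unitSect j F V a)) =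
      ((EtCoh.pull j').obj ((EtCoh.pull g).obj F)).obj.map
        (((MorphismProperty.Over.pullbackComp (P := EtCoh.etaleMP) (Q := ⊤) g' j).app V).inv ≫ d₁ ≫
          ((MorphismProperty.Over.pullbackComp (P := EtCoh.etaleMP) (Q := ⊤) j' g).app V).hom).op
        (unitSect j' _ _ (unitSect g F V a)) := by
  obtain ⟨d₁, hd₁, hc⟩ := pullCongr_unitSect w F V a
  refine ⟨d₁, hd₁, ?_⟩
  rw [sqIso_hom_app]
  have h1 := pullComp_inv_unitSect g' j F V a
  have h3 := pullComp_hom_unitSect j' g F V a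
  generalize ((EtCore.pullComp g' j).app F).inv = p at h1 ⊢
  generalize ((EtCore.pullCongr w).app F).hom = q at hc ⊢
  generalize ((EtCore.pullComp j' g).app F).hom = r at h3 ⊢
  exact three_step (b := (EtCoh.bc (g' ≫ j)).obj V) (c := (EtCoh.bc (j' ≫ g)).obj V) p q r h1 hc h3

theorem oneSect_square {P : Scheme.{u}} (g' : P ⟶ U) (j : U ⟶ Y) {F : EtCoh.Ab Y}
    (ψ : EtCoh.const U ℤ ⟶ (EtCoh.pull j).obj F) {B : EtCoh.Ab P}
    (κ : (EtCoh.pull g').obj ((EtCoh.pull j).obj F) ⟶ B) {V : Y.Etale}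
    (δ : EtCoh.top U ⟶ (EtCoh.bc j).obj V) (a : EtCoh.sect F V)
    (hψ : oneSect ψ = ((EtCoh.pull j).obj F).obj.map δ.op (unitSect j F V a)) :
    oneSect ((EtCore.pullConst g' ℤ).inv ≫ (EtCoh.pull g').map ψ ≫ κ) =
      B.obj.map ((EtCore.bcTopIso g').inv ≫ (EtCoh.bc g').map δ).op
        (κ.hom.app _ (unitSect g' _ _ (unitSect j F V a))) := by
  rw [← Category.assoc, oneSect_comp, oneSect_pull, hψ, unitSect_map]
  exact (app_map _ _ _).trans ((congrArg _ (app_map _ _ _)).trans (map_map _ _ _ _))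

theorem pullSect_map_unitSect {X P : Scheme.{u}} (j' : P ⟶ X) [Etale j'] (A : EtCoh.Ab X) (V' : X.Etale)
    (b : EtCoh.sect A V') (e : EtCoh.top P ⟶ (EtCoh.bc j').obj V') :
    pullSect j' A _ (((EtCoh.pull j').obj A).obj.map e.op (unitSect j' A V' b)) =
      A.obj.map ((EtShriek.compEtale j').map e ≫ (compBcAdj j').counit.app V').op b := by
  rw [pullSect_map, pullSect_unitSect]
  exact map_map A _ _ _

theorem map_chain (B : EtCoh.Ab W) {a b c : W.Etale} {p : a ⟶ b} {q : b ⟶ c} {m : a ⟶ c} (hm : p ≫ q = m)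
    {z : EtCoh.sect B a} {y : EtCoh.sect B b} {x : EtCoh.sect B c}
    (h1 : z = B.obj.map p.op y) (h2 : y = B.obj.map q.op x) : z = B.obj.map m.op x := by
  subst hm
  rw [h1, h2, map_map]

theorem sectOf_square_aux {X P : Scheme.{u}} {g' : P ⟶ U} {j' : P ⟶ X} [Etale j'] {j : U ⟶ Y}
    {g : X ⟶ Y} (w : g' ≫ j = j' ≫ g) {F : EtCoh.Ab Y} (ψ : EtCoh.const U ℤ ⟶ (EtCoh.pull j).obj F)
    (V : Y.Etale) (δ : EtCoh.top U ⟶ (EtCoh.bc j).obj V) (v : U ⟶ V.left) (hv : δ.left ≫ bcFst j V = v)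
    (a : EtCoh.sect F V) (hψ : oneSect ψ = ((EtCoh.pull j).obj F).obj.map δ.op (unitSect j F V a)) :
    ∃ d : (EtShriek.compEtale j').obj (EtCoh.top P) ⟶ (EtCoh.bc g).obj V,
      d.left ≫ bcFst g V = g' ≫ v ∧
      sectOf j' ((EtCore.pullConst g' ℤ).inv ≫ (EtCoh.pull g').map ψ ≫ ((sqIso w).app F).hom) =
        ((EtCoh.pull g).obj F).obj.map d.op (unitSect g F V a) := by
  obtain ⟨d₁, hd₁, h2⟩ := sqIso_unitSect w F V a
  have h1 := oneSect_square g' j ψ (B := (EtCoh.pull j').obj ((EtCoh.pull g).obj F)) ((sqIso w).app F).hom δ a hψ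
  have h3 := map_chain ((EtCoh.pull j').obj ((EtCoh.pull g).obj F)) (b := (EtCoh.bc g').obj ((EtCoh.bc j).obj V))
    (c := (EtCoh.bc j').obj ((EtCoh.bc g).obj V)) (m := sqMor δ d₁) (Category.assoc _ _ _) h1 h2
  refine ⟨(EtShriek.compEtale j').map (sqMor δ d₁) ≫ (compBcAdj j').counit.app ((EtCoh.bc g).obj V),
    (Category.assoc _ _ _).trans (sqMor_fst δ d₁ hd₁ hv), ?_⟩
  exact (congrArg (pullSect j' _ (EtCoh.top P)) h3).trans
    (pullSect_map_unitSect j' _ ((EtCoh.bc g).obj V) (unitSect g F V a) (sqMor δ d₁))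

/-- Restriction of a section around a square with etale sides. -/
theorem sectOf_square {X P : Scheme.{u}} {g' : P ⟶ U} {j' : P ⟶ X} [Etale j'] {j : U ⟶ Y} [Etale j]
    {g : X ⟶ Y} (w : g' ≫ j = j' ≫ g) {F : EtCoh.Ab Y} (ψ : EtCoh.const U ℤ ⟶ (EtCoh.pull j).obj F) :
    ∃ d : (EtShriek.compEtale j').obj (EtCoh.top P) ⟶
        (EtCoh.bc g).obj ((EtShriek.compEtale j).obj (EtCoh.top U)),
      d.left ≫ bcFst g _ = g' ∧
      sectOf j' ((EtCore.pullConst g' ℤ).inv ≫ (EtCoh.pull g').map ψ ≫ ((sqIso w).app F).hom) =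
        ((EtCoh.pull g).obj F).obj.map d.op
          (unitSect g F ((EtShriek.compEtale j).obj (EtCoh.top U)) (sectOf j ψ)) := by
  obtain ⟨d, hd, h⟩ := sectOf_square_aux w ψ ((EtShriek.compEtale j).obj (EtCoh.top U))
    ((compBcAdj j).unit.app (EtCoh.top U)) (𝟙 U) (unit_left_bcFst j (EtCoh.top U)) (sectOf j ψ)
    (sect_preimage j (oneSect ψ))
  exact ⟨d, hd.trans (Category.comp_id g'), h⟩

/-- Around a cartesian square the comparison is an isomorphism. -/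
theorem isIso_of_isPullback {X P : Scheme.{u}} {g' : P ⟶ U} {j' : P ⟶ X} [Etale j'] {j : U ⟶ Y} [Etale j]
    {g : X ⟶ Y} (sq : IsPullback g' j' j g)
    (d : (EtShriek.compEtale j').obj (EtCoh.top P) ⟶
        (EtCoh.bc g).obj ((EtShriek.compEtale j).obj (EtCoh.top U)))
    (hd : d.left ≫ bcFst g _ = g') : IsIso d := by
  have sq' : IsPullback g' j' ((EtShriek.compEtale j).obj (EtCoh.top U)).hom g := by
    have : ((EtShriek.compEtale j).obj (EtCoh.top U)).hom = j := Category.id_comp j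
    rw [this]
    exact sq
  have hsnd : d.left ≫ pullback.snd ((EtShriek.compEtale j).obj (EtCoh.top U)).hom g = j' :=
    (Over.w d.hom).trans (Category.id_comp j')
  have hl : d.left = sq'.isoPullback.hom := pullback.hom_ext
    (hd.trans sq'.isoPullback_hom_fst.symm) (hsnd.trans sq'.isoPullback_hom_snd.symm)
  have : IsIso ((Scheme.Etale.forget X ⋙ Over.forget X).map d) := by
    change IsIso d.left
    rw [hl]
    infer_instance
  exact isIso_of_reflects_iso d (Scheme.Etale.forget X ⋙ Over.forget X)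

end Groth.Agent.Henz21.EtAcycComp
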